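import Groth.Agent.ProjQMapX.Ident

/-!
`Proj` of a graded homomorphism over one base, through the diagonal charts only.
-/

universe u

open CategoryTheory CategoryTheory.Limits AlgebraicGeometry TopologicalSpace Opposite
open HomogeneousLocalization
open scoped HomogeneousIdeal

noncomputable section

namespace Groth.Agent.ConeLib35

variable {Y : Scheme.{u}} {𝒜 ℬ : RelProj.QCGrAlg Y} {φ : 𝒜.toQCAlg ⟶ ℬ.toQCAlg} {hφ : RelProj.IsGradedHom φ}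
  {PA : Scheme.{u}} {pA : PA ⟶ Y}
  {chartA : ∀ (U : Y.Opens) (hU : IsAffineOpen U), (((pA ⁻¹ᵁ U : PA.Opens) : Scheme.{u}) ≅ Proj (𝒜.deg U hU))}
  {PB : Scheme.{u}} {pB : PB ⟶ Y}
  {chartB : ∀ (U : Y.Opens) (hU : IsAffineOpen U), (((pB ⁻¹ᵁ U : PB.Opens) : Scheme.{u}) ≅ Proj (ℬ.deg U hU))}

/-- The chart equations over the diagonal affine pairs. -/
def DiagEq (φ : 𝒜.toQCAlg ⟶ ℬ.toQCAlg) (hφ : RelProj.IsGradedHom φ) (pA : PA ⟶ Y)
    (chartA : ∀ (U : Y.Opens) (hU : IsAffineOpen U), (((pA ⁻¹ᵁ U : PA.Opens) : Scheme.{u}) ≅ Proj (𝒜.deg U hU)))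
    (pB : PB ⟶ Y)
    (chartB : ∀ (U : Y.Opens) (hU : IsAffineOpen U), (((pB ⁻¹ᵁ U : PB.Opens) : Scheme.{u}) ≅ Proj (ℬ.deg U hU)))
    (W : PB.Opens) (r : (W : Scheme.{u}) ⟶ PA) : Prop :=
  ∀ (U : Y.Opens) (hU : IsAffineOpen U) (d : ℕ) (hd : 0 < d) (f : 𝒜.presheaf.obj (op U)) (hf : f ∈ 𝒜.deg U hU d)
    (g : Spec (CommRingCat.of (Away (ℬ.deg U hU) (RelProj.gradedHomAt φ hφ U hU f))) ⟶ (W : Scheme.{u})),
    g ≫ W.ι = Proj.awayι (ℬ.deg U hU) (RelProj.gradedHomAt φ hφ U hU f) ((RelProj.gradedHomAt φ hφ U hU).2 hf) hd ≫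
        RelProj.emb pB chartB U hU →
      g ≫ r = Spec.map (CommRingCat.ofHom (Away.map (RelProj.gradedHomAt φ hφ U hU) f)) ≫
        Proj.awayι (𝒜.deg U hU) f hf hd ≫ RelProj.emb pA chartA U hU

lemma diag_transfer {A B σ τ : Type u} [CommRing A] [CommRing B] [SetLike σ A] [AddSubgroupClass σ A]
    [SetLike τ B] [AddSubgroupClass τ B] {𝒮 : ℕ → σ} {𝒯 : ℕ → τ} [GradedRing 𝒮] [GradedRing 𝒯]
    {PX PY : Scheme.{u}} (eX : Proj 𝒮 ⟶ PX) (eY : Proj 𝒯 ⟶ PY) [IsOpenImmersion eY]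
    {W : PY.Opens} (r : (W : Scheme.{u}) ⟶ PX) {ψ ψ' : 𝒮 →+*ᵍ 𝒯} (e : ψ = ψ') {f : A} {d : ℕ}
    (hd : 0 < d) (hf : f ∈ 𝒮 d)
    (H : ∀ g : Spec (CommRingCat.of (Away 𝒯 (ψ f))) ⟶ (W : Scheme.{u}),
      g ≫ W.ι = Proj.awayι 𝒯 (ψ f) (ψ.2 hf) hd ≫ eY →
        g ≫ r = Spec.map (CommRingCat.ofHom (Away.map ψ f)) ≫ Proj.awayι 𝒮 f hf hd ≫ eX)
    (g : Spec (CommRingCat.of (Away 𝒯 (ψ' f))) ⟶ (W : Scheme.{u}))
    (hg : g ≫ W.ι = Proj.awayι 𝒯 (ψ' f) (ψ'.2 hf) hd ≫ eY) :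
    g ≫ r = Spec.map (CommRingCat.ofHom (Away.map ψ' f)) ≫ Proj.awayι 𝒮 f hf hd ≫ eX := by
  subst e
  exact H g hg

lemma diagEq_of_isProjQMapOn {W : PB.Opens} {r : (W : Scheme.{u}) ⟶ PA}
    (hr : RelProj.IsProjQMapOn (RelProj.QGrHom.ofHom φ hφ) pA chartA pB chartB W r) :
    DiagEq φ hφ pA chartA pB chartB W r := by
  intro U hU d hd f hf g hg
  refine diag_transfer (RelProj.emb pA chartA U hU) (RelProj.emb pB chartB U hU) r
    (ProjQMapX.ofHom_gradedAt φ hφ U hU) hd hf (fun g' hg' => ?_) g hg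
  have hW : Set.range (RelProj.awayEmb (RelProj.QGrHom.ofHom φ hφ) pB chartB U hU U hU le_rfl hd f hf).base ⊆
      Set.range W.ι.base := by
    unfold RelProj.awayEmb
    rintro _ ⟨y, rfl⟩
    refine ⟨g' y, ?_⟩
    rw [← Scheme.Hom.comp_apply, hg']
  have e : g' = IsOpenImmersion.lift W.ι
      (RelProj.awayEmb (RelProj.QGrHom.ofHom φ hφ) pB chartB U hU U hU le_rfl hd f hf) hW :=
    IsOpenImmersion.lift_uniq _ _ hW g' hg'
  rw [e]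
  exact hr U hU U hU le_rfl d hd f hf hW

variable (hA : RelProj.IsRelProj 𝒜 pA chartA) (hB : RelProj.IsRelProj ℬ pB chartB)
  {W : PB.Opens} (hW : W = RelProj.domQ (RelProj.QGrHom.ofHom φ hφ) pB chartB)

include hB hW in
lemma exists_diag_lift (x : W) : ∃ (U : Y.Opens) (hU : IsAffineOpen U) (d : ℕ) (hd : 0 < d)
    (f : 𝒜.presheaf.obj (op U)) (hf : f ∈ 𝒜.deg U hU d)
    (g : Spec (CommRingCat.of (Away (ℬ.deg U hU) (RelProj.gradedHomAt φ hφ U hU f))) ⟶ (W : Scheme.{u})),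
    g ≫ W.ι = Proj.awayι (ℬ.deg U hU) (RelProj.gradedHomAt φ hφ U hU f) ((RelProj.gradedHomAt φ hφ U hU).2 hf) hd ≫
        RelProj.emb pB chartB U hU ∧ IsOpenImmersion g ∧ x ∈ Set.range g := by
  subst hW
  obtain ⟨_, ⟨U, hU₀, rfl⟩, hxU, -⟩ := Y.isBasis_affineOpens.exists_subset_of_mem_open
    (Set.mem_univ (pB x.1)) isOpen_univ
  have hU : IsAffineOpen U := hU₀
  obtain ⟨w, hw, hwx⟩ := (ProjQMapX.domQ_ofHom_inf φ hφ hB U hU).le
    (show x.1 ∈ RelProj.domQ (RelProj.QGrHom.ofHom φ hφ) pB chartB ⊓ pB ⁻¹ᵁ U from ⟨x.2, hxU⟩)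
  obtain ⟨d, f, hd, hf, hwf⟩ := (ProjQMapX.mem_domOpen_iff _ w).mp hw
  have hsub : Set.range (Proj.awayι (ℬ.deg U hU) (RelProj.gradedHomAt φ hφ U hU f)
      ((RelProj.gradedHomAt φ hφ U hU).2 hf) hd ≫ RelProj.emb pB chartB U hU) ⊆
      Set.range (RelProj.domQ (RelProj.QGrHom.ofHom φ hφ) pB chartB).ι := by
    rintro _ ⟨y, rfl⟩
    rw [Scheme.Opens.range_ι]
    have hy : RelProj.emb pB chartB U hU (Proj.awayι (ℬ.deg U hU) (RelProj.gradedHomAt φ hφ U hU f)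
        ((RelProj.gradedHomAt φ hφ U hU).2 hf) hd y) ∈
        RelProj.emb pB chartB U hU ''ᵁ RelCone.domOpen (RelProj.gradedHomAt φ hφ U hU) :=
      ⟨_, (ProjQMapX.mem_domOpen_iff _ _).mpr
        ⟨d, f, hd, hf, (Proj.opensRange_awayι (ℬ.deg U hU) _ _ hd).le ⟨y, rfl⟩⟩, rfl⟩
    exact ((ProjQMapX.domQ_ofHom_inf φ hφ hB U hU).ge hy).1
  refine ⟨U, hU, d, hd, f, hf, IsOpenImmersion.lift _ _ hsub, IsOpenImmersion.lift_fac _ _ _, ?_, ?_⟩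
  · have : IsOpenImmersion (IsOpenImmersion.lift _ _ hsub ≫
        (RelProj.domQ (RelProj.QGrHom.ofHom φ hφ) pB chartB).ι) := by
      rw [IsOpenImmersion.lift_fac]; infer_instance
    exact IsOpenImmersion.of_comp _ (RelProj.domQ (RelProj.QGrHom.ofHom φ hφ) pB chartB).ι
  · obtain ⟨y, hy⟩ := (Proj.opensRange_awayι (ℬ.deg U hU) _ ((RelProj.gradedHomAt φ hφ U hU).2 hf) hd).ge hwf
    refine ⟨y, (RelProj.domQ (RelProj.QGrHom.ofHom φ hφ) pB chartB).ι.isOpenEmbedding.injective ?_⟩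
    rw [← Scheme.Hom.comp_apply, IsOpenImmersion.lift_fac, Scheme.Hom.comp_apply]
    exact (congrArg (RelProj.emb pB chartB U hU) hy).trans hwx

include hB hW in
lemma diag_hom_ext {T : Scheme.{u}} {a b : (W : Scheme.{u}) ⟶ T}
    (h : ∀ (U : Y.Opens) (hU : IsAffineOpen U) (d : ℕ) (hd : 0 < d) (f : 𝒜.presheaf.obj (op U))
      (hf : f ∈ 𝒜.deg U hU d)
      (g : Spec (CommRingCat.of (Away (ℬ.deg U hU) (RelProj.gradedHomAt φ hφ U hU f))) ⟶ (W : Scheme.{u})),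
      g ≫ W.ι = Proj.awayι (ℬ.deg U hU) (RelProj.gradedHomAt φ hφ U hU f) ((RelProj.gradedHomAt φ hφ U hU).2 hf) hd ≫
          RelProj.emb pB chartB U hU → g ≫ a = g ≫ b) : a = b := by
  refine Scheme.hom_ext_of_forall _ _ fun x ↦ ?_
  obtain ⟨U, hU, d, hd, f, hf, g, hg, hgo, hx⟩ := exists_diag_lift hB hW x
  refine ⟨g.opensRange, hx, ?_⟩
  rw [← g.isoOpensRange_inv_comp, Category.assoc, Category.assoc, h U hU d hd f hf g hg]

include hA hB hW in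
theorem existsUnique_diagEq : ∃! r : (W : Scheme.{u}) ⟶ PA, DiagEq φ hφ pA chartA pB chartB W r := by
  subst hW
  obtain ⟨r, hr, -⟩ := ProjQMapX.existsUnique_isProjQMapOn (RelProj.QGrHom.ofHom φ hφ) hA hB
  refine ⟨r, diagEq_of_isProjQMapOn hr, fun r' hr' => diag_hom_ext hB rfl ?_⟩
  intro U hU d hd f hf g hg
  exact (hr' U hU d hd f hf g hg).trans (diagEq_of_isProjQMapOn hr U hU d hd f hf g hg).symm

include hA hB hW in
theorem isProjQMapOn_of_diagEq {r : (W : Scheme.{u}) ⟶ PA} (hr : DiagEq φ hφ pA chartA pB chartB W r) :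
    RelProj.IsProjQMapOn (RelProj.QGrHom.ofHom φ hφ) pA chartA pB chartB W r := by
  subst hW
  obtain ⟨r₀, hr₀, -⟩ := ProjQMapX.existsUnique_isProjQMapOn (RelProj.QGrHom.ofHom φ hφ) hA hB
  rwa [(existsUnique_diagEq hA hB rfl).unique hr (diagEq_of_isProjQMapOn hr₀)]

include hA hB hW in
theorem diagEq_comp {r : (W : Scheme.{u}) ⟶ PA} (hr : DiagEq φ hφ pA chartA pB chartB W r) :
    r ≫ pA = W.ι ≫ pB := by
  have h := isProjQMapOn_of_diagEq hA hB hW hr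
  subst hW
  simpa using ProjQMapX.isProjQMapOn_comp hA hB h

include hA hB hW in
theorem of_diagEq {r : (W : Scheme.{u}) ⟶ PA} (hr : DiagEq φ hφ pA chartA pB chartB W r)
    (Pr : MorphismProperty Scheme.{u}) [IsZariskiLocalAtTarget Pr]
    (h : ∀ (U : Y.Opens) (hU : IsAffineOpen U) (d : ℕ) (_ : 0 < d) (f : 𝒜.presheaf.obj (op U)),
      f ∈ 𝒜.deg U hU d → Pr (Spec.map (CommRingCat.ofHom (Away.map (RelProj.gradedHomAt φ hφ U hU) f)))) :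
    Pr r := by
  have hq := isProjQMapOn_of_diagEq hA hB hW hr
  subst hW
  exact ProjQMapX.of_charts_ofHom φ hφ hA hB hq Pr h

end Groth.Agent.ConeLib35
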