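import Groth.Agent.ConeLib35.PointRing
import Groth.Agent.ConeLib35.Retr
import Groth.Agent.ConeX.Pointed

/-!
The pointed projective cone.
-/

universe u

open CategoryTheory CategoryTheory.Limits AlgebraicGeometry TopologicalSpace Opposite
open HomogeneousLocalization
open scoped HomogeneousIdeal

noncomputable section

namespace Groth.Agent.ConeLib35

variable {Y : Scheme.{u}} {𝒮 𝒮h : RelProj.QCGrAlg Y} {ι : 𝒮.toQCAlg ⟶ 𝒮h.toQCAlg}
  {z : 𝒮h.presheaf.obj (op ⊤)} (h : RelCone.IsPolyOver 𝒮 𝒮h ι z)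
  {PC : Scheme.{u}} {pC : PC ⟶ Y}
  {chartC : ∀ (U : Y.Opens) (hU : IsAffineOpen U), (((pC ⁻¹ᵁ U : PC.Opens) : Scheme.{u}) ≅ Proj (𝒮h.deg U hU))}
  (hPC : RelProj.IsRelProj 𝒮h pC chartC)

include hPC in
lemma pointedProjCone_eq_domQ :
    RelCone.pointedProjCone 𝒮 h pC chartC = RelProj.domQ (RelProj.QGrHom.ofHom ι h.graded) pC chartC := by
  refine le_antisymm (iSup_le fun U => ?_) fun x hx => ?_
  · rw [← ProjQMapX.domQ_ofHom_inf ι h.graded hPC U.1 U.2]
    exact inf_le_left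
  · obtain ⟨_, ⟨U, hU, rfl⟩, hxU, -⟩ := Y.isBasis_affineOpens.exists_subset_of_mem_open
      (Set.mem_univ (pC x)) isOpen_univ
    refine Opens.mem_iSup.mpr ⟨⟨U, hU⟩, ?_⟩
    exact (ProjQMapX.domQ_ofHom_inf ι h.graded hPC U hU).le ⟨hx, hxU⟩

include hPC in
lemma emb_mem_pointedProjCone_iff (U : Y.Opens) (hU : IsAffineOpen U) (w : Proj (𝒮h.deg U hU)) :
    RelProj.emb pC chartC U hU w ∈ RelCone.pointedProjCone 𝒮 h pC chartC ↔
      w ∈ RelCone.domOpen (RelProj.gradedHomAt ι h.graded U hU) := by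
  constructor
  · intro hw
    rw [pointedProjCone_eq_domQ h hPC] at hw
    obtain ⟨w', hw', e⟩ := (ProjQMapX.domQ_ofHom_inf ι h.graded hPC U hU).le
      (show RelProj.emb pC chartC U hU w ∈ _ ⊓ pC ⁻¹ᵁ U from ⟨hw, ProjQMapX.emb_mem U hU w⟩)
    rwa [← (RelProj.emb pC chartC U hU).isOpenEmbedding.injective e]
  · exact fun hw => Opens.mem_iSup.mpr ⟨⟨U, hU⟩, w, hw, rfl⟩

variable {i : 𝒮.toQCAlg.spec ⟶ PC} (hi : RelCone.IsConeImm 𝒮 h pC chartC i)
include hPC hi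

lemma isOpenImmersion_coneImm : IsOpenImmersion i :=
  isOpenImmersion_coneMap ι z h.deg_z (poly_bij h) (dehom_bijective h) (coneImm_eq h hi) hPC

lemma coneImm_comp : i ≫ pC = 𝒮.toQCAlg.π :=
  coneMap_comp ι z h.deg_z (poly_bij h) (coneImm_eq h hi) hPC

lemma emb_mem_range_iff (U : Y.Opens) (hU : IsAffineOpen U) (w : Proj (𝒮h.deg U hU)) :
    RelProj.emb pC chartC U hU w ∈ Set.range i ↔ w ∈ Proj.basicOpen (𝒮h.deg U hU) (zres z U) := by
  have e := Set.ext_iff.mp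
    (range_coneMap ι z h.deg_z (poly_bij h) (dehom_bijective h) (coneImm_eq h hi) hPC U hU)
    (RelProj.emb pC chartC U hU w)
  rw [(RelProj.emb pC chartC U hU).isOpenEmbedding.injective.mem_set_image] at e
  exact ⟨fun hw => e.mp ⟨hw, ProjQMapX.emb_mem U hU w⟩, fun hw => (e.mpr hw).1⟩

/-- The inverse image of the pointed projective cone is the pointed affine cone. -/
lemma preimage_pointedProjCone :
    i ⁻¹ᵁ RelCone.pointedProjCone 𝒮 h pC chartC = RelCone.pointedCone 𝒮 := by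
  ext y
  obtain ⟨_, ⟨U, hU₀, rfl⟩, hyU, -⟩ := Y.isBasis_affineOpens.exists_subset_of_mem_open
    (Set.mem_univ (𝒮.toQCAlg.π y)) isOpen_univ
  have hU : IsAffineOpen U := hU₀
  obtain ⟨p, rfl⟩ : y ∈ (𝒮.toQCAlg.ι U hU).opensRange := (𝒮.toQCAlg.π_preimage U hU).le hyU
  show (𝒮.toQCAlg.ι U hU ≫ i) p ∈ RelCone.pointedProjCone 𝒮 h pC chartC ↔
    𝒮.toQCAlg.ι U hU p ∈ RelCone.pointedCone 𝒮
  rw [coneImm_eq h hi U hU, ConeX.mem_pointedCone, ConeX.mem_vertexCompl]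
  refine (emb_mem_pointedProjCone_iff h hPC U hU _).trans ?_
  exact awayι_mem_domOpen_iff (RelProj.gradedHomAt ι h.graded U hU) (h.deg_z U hU) (h.bij U hU) p

/-- The locus at infinity lies in the pointed projective cone. -/
lemma mem_pointedProjCone_of_notMem_range {x : PC} (hx : x ∉ Set.range i) :
    x ∈ RelCone.pointedProjCone 𝒮 h pC chartC := by
  obtain ⟨_, ⟨U, hU₀, rfl⟩, hxU, -⟩ := Y.isBasis_affineOpens.exists_subset_of_mem_open
    (Set.mem_univ (pC x)) isOpen_univ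
  have hU : IsAffineOpen U := hU₀
  obtain ⟨w, rfl⟩ := ProjQMapX.exists_emb_eq (chart := chartC) U hU hxU
  rw [emb_mem_pointedProjCone_iff h hPC U hU]
  refine mem_domOpen_of_z_mem (RelProj.gradedHomAt ι h.graded U hU) (h.deg_z U hU) (h.bij U hU) w ?_
  by_contra hne
  exact hx ((emb_mem_range_iff h hPC hi U hU w).mpr hne)

end Groth.Agent.ConeLib35
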