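import Groth.Agent.ConeLib35.Glue
import Groth.Agent.ProjBC35.DegOne

/-!
The dehomogenization for polynomial presentations.
-/

universe u

open CategoryTheory CategoryTheory.Limits AlgebraicGeometry TopologicalSpace Opposite
open HomogeneousLocalization
open scoped HomogeneousIdeal

noncomputable section

namespace Groth.Agent.ConeLib35

section ring

variable {A B : Type u} [CommRing A] [CommRing B]
variable {σ : Type u} [SetLike σ A] [AddSubgroupClass σ A] {𝒜 : ℕ → σ} [GradedRing 𝒜]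
variable {τ : Type u} [SetLike τ B] [AddSubgroupClass τ B] {ℬ : ℕ → τ} [GradedRing ℬ]
variable {z : B} (hz : z ∈ ℬ 1)

include hz in
lemma baseHom_bijective_graded (ψ : 𝒜 →+*ᵍ ℬ)
    (hbij : Function.Bijective (Polynomial.eval₂RingHom (ψ : A →+* B) z)) :
    Function.Bijective (baseHom (ℬ := ℬ) (ψ : A →+* B) hbij) :=
  ⟨baseHom_injective _ hz hbij fun P _ => sum_coeff_eq_zero ψ hz hbij P,
    baseHom_surjective _ hz hbij (closure_homogeneous 𝒜) fun _ ⟨i, hi⟩ => ⟨i, ψ.map_mem hi⟩⟩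

include hz in
lemma baseHom_bijective_flat (φ : A →+* B) (hφ : ∀ a, φ a ∈ ℬ 0)
    (hbij : Function.Bijective (Polynomial.eval₂RingHom φ z)) :
    Function.Bijective (baseHom (ℬ := ℬ) φ hbij) :=
  ⟨baseHom_injective _ hz hbij fun P _ => sum_coeff_eq_zero_of_degZero φ hφ hz hbij P,
    baseHom_surjective _ hz hbij (S := Set.univ) (by simp) fun a _ => ⟨0, hφ a⟩⟩

lemma eq_baseHom_graded (ψ : 𝒜 →+*ᵍ ℬ)
    (hbij : Function.Bijective (Polynomial.eval₂RingHom (ψ : A →+* B) z)) (hz : z ∈ ℬ 1)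
    (θ : Away ℬ z →+* A)
    (hθ : ∀ (q : Away ℬ z) (k : ℕ) (x : A), x ∈ 𝒜 k →
      q.val = Localization.mk (ψ x) ⟨z ^ k, pow_mem (Submonoid.mem_powers z) k⟩ → θ q = x) :
    θ = baseHom (ψ : A →+* B) hbij := by
  refine eq_baseHom _ hbij (baseHom_bijective_graded hz ψ hbij) (closure_homogeneous 𝒜) θ ?_
  rintro a ⟨k, hk⟩
  refine ⟨Away.mk ℬ hz k (ψ a) (by simpa using ψ.map_mem hk), ?_, hθ _ k a hk (Away.val_mk ..)⟩
  rw [baseHom_mk _ hz hbij]
  exact evalOne_map _ hbij a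

lemma eq_baseHom_flat (φ : A →+* B) (hφ : ∀ a, φ a ∈ ℬ 0)
    (hbij : Function.Bijective (Polynomial.eval₂RingHom φ z)) (hz : z ∈ ℬ 1)
    (θ : Away ℬ z →+* A)
    (hθ : ∀ (q : Away ℬ z) (k : ℕ) (a : A),
      q.val = Localization.mk (φ a * z ^ k) ⟨z ^ k, pow_mem (Submonoid.mem_powers z) k⟩ → θ q = a) :
    θ = baseHom φ hbij := by
  refine eq_baseHom _ hbij (baseHom_bijective_flat hz φ hφ hbij) (S := Set.univ) (by simp) θ ?_
  intro a _
  refine ⟨Away.mk ℬ hz 0 (φ a) (by simpa using hφ a), ?_, hθ _ 0 a ?_⟩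
  · rw [baseHom_mk _ hz hbij]
    exact evalOne_map _ hbij a
  · rw [Away.val_mk]
    simp

lemma isIso_awayι_flat (φ : A →+* B) (hφ : ∀ a, φ a ∈ ℬ 0)
    (hbij : Function.Bijective (Polynomial.eval₂RingHom φ z)) (hz : z ∈ ℬ 1) :
    IsIso (Proj.awayι ℬ z hz one_pos) := by
  refine ProjBC35.isIso_awayι φ hz fun n b hb => ?_
  obtain ⟨P, rfl⟩ := hbij.2 b
  refine ⟨P.coeff n, ?_⟩
  conv_lhs => rw [coeff_eq_zero_of_degZero φ hφ hz hbij P (by simpa using hb)]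
  simp

end ring

variable {Y : Scheme.{u}} {𝒮 𝒮h : RelProj.QCGrAlg Y} {ι : 𝒮.toQCAlg ⟶ 𝒮h.toQCAlg}
  {z : 𝒮h.presheaf.obj (op ⊤)} (h : RelCone.IsPolyOver 𝒮 𝒮h ι z)

include h in
/-- The presentation in the form used for gluing. -/
lemma poly_bij (U : Y.Opens) (hU : IsAffineOpen U) :
    Function.Bijective (Polynomial.eval₂RingHom (ι.hom.app (op U)).hom (zres z U)) :=
  h.bij U hU

include h in
lemma dehom_bijective (U : Y.Opens) (hU : IsAffineOpen U) :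
    Function.Bijective (dehom ι z (poly_bij h) U hU) :=
  baseHom_bijective_graded (h.deg_z U hU) (RelProj.gradedHomAt ι h.graded U hU) (h.bij U hU)

lemma awayZToBase_eq (U : Y.Opens) (hU : IsAffineOpen U) :
    h.awayZToBase U hU = dehom ι z (poly_bij h) U hU := rfl

lemma coneImm_eq {PC : Scheme.{u}} {pC : PC ⟶ Y}
    {chartC : ∀ (U : Y.Opens) (hU : IsAffineOpen U), (((pC ⁻¹ᵁ U : PC.Opens) : Scheme.{u}) ≅ Proj (𝒮h.deg U hU))}
    {i : 𝒮.toQCAlg.spec ⟶ PC} (hi : RelCone.IsConeImm 𝒮 h pC chartC i)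
    (U : Y.Opens) (hU : IsAffineOpen U) :
    𝒮.toQCAlg.ι U hU ≫ i = coneChart ι z h.deg_z (poly_bij h) pC chartC U hU := hi U hU

end Groth.Agent.ConeLib35
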