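import Groth.Agent.ConeLib35.PolyRing
import Groth.Agent.ProjQMapX.Charts
import Groth.Agent.ProjQMapX.Ring
import Groth.Agent.ProjBC35.Rel
import Groth.Agent.RelSpecX.Spec
import Groth.Agent.Proj16.KerBot
import Groth.Agent.Proj16.RelExist
import Mathlib.AlgebraicGeometry.IdealSheaf.Functorial

/-!
The dehomogenization morphism of a relative polynomial algebra.
-/

universe u

open CategoryTheory CategoryTheory.Limits AlgebraicGeometry TopologicalSpace Opposite
open HomogeneousLocalization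
open scoped HomogeneousIdeal

noncomputable section

namespace Groth.Agent.ConeLib35

variable {Y P : Scheme.{u}} {A : RelSpec.QCAlg Y} {Sh : RelProj.QCGrAlg Y} (φ : A ⟶ Sh.toQCAlg)
  (z : Sh.presheaf.obj (op ⊤))
  (hz : ∀ (U : Y.Opens) (hU : IsAffineOpen U), (Sh.presheaf.map (homOfLE le_top).op).hom z ∈ Sh.deg U hU 1)
  (hbij : ∀ (U : Y.Opens) (_ : IsAffineOpen U), Function.Bijective
    (Polynomial.eval₂RingHom (φ.hom.app (op U)).hom ((Sh.presheaf.map (homOfLE le_top).op).hom z)))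
  (hb : ∀ (U : Y.Opens) (hU : IsAffineOpen U),
    Function.Bijective (baseHom (ℬ := Sh.deg U hU) (φ.hom.app (op U)).hom (hbij U hU)))
  (p : P ⟶ Y)
  (chart : ∀ (U : Y.Opens) (hU : IsAffineOpen U), (((p ⁻¹ᵁ U : P.Opens) : Scheme.{u}) ≅ Proj (Sh.deg U hU)))

/-- The restriction of the variable. -/
abbrev zres (U : Y.Opens) : Sh.presheaf.obj (op U) := (Sh.presheaf.map (homOfLE le_top).op).hom z

/-- The dehomogenization over an affine open. -/
abbrev dehom (U : Y.Opens) (hU : IsAffineOpen U) : Away (Sh.deg U hU) (zres z U) →+* A.presheaf.obj (op U) :=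
  baseHom (φ.hom.app (op U)).hom (hbij U hU)

/-- The chart of the dehomogenization morphism. -/
def coneChart (U : Y.Opens) (hU : IsAffineOpen U) : Spec (A.presheaf.obj (op U)) ⟶ P :=
  Spec.map (CommRingCat.ofHom (dehom φ z hbij U hU)) ≫
    Proj.awayι (Sh.deg U hU) (zres z U) (hz U hU) one_pos ≫ RelProj.emb p chart U hU

omit hz in
lemma zres_res {U V : Y.Opens} (hVU : V ≤ U) :
    (Sh.presheaf.map (homOfLE hVU).op).hom (zres z U) = zres z V :=
  congr($((Sh.presheaf.map_comp (homOfLE (le_top : U ≤ ⊤)).op (homOfLE hVU).op).symm).hom z)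

include hz in
lemma dehom_res {U V : Y.Opens} (hU : IsAffineOpen U) (hV : IsAffineOpen V) (hVU : V ≤ U) :
    (A.presheaf.map (homOfLE hVU).op).hom.comp (dehom φ z hbij U hU) =
      (dehom φ z hbij V hV).comp
        (ProjQMapX.awayMapTo (Sh.res hU hV hVU) (x := zres z U) (y := zres z V) (zres_res z hVU)) := by
  refine RingHom.ext fun q => ?_
  obtain ⟨n, b, hb, rfl⟩ := q.mk_surjective (Sh.deg U hU) (hz U hU)
  rw [RingHom.comp_apply, RingHom.comp_apply, ProjQMapX.awayMapTo_mk]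
  erw [baseHom_mk _ (hz U hU), baseHom_mk _ (hz V hV)]
  obtain ⟨P, rfl⟩ := (hbij U hU).2 b
  have e : (Sh.presheaf.map (homOfLE hVU).op).hom (P.eval₂ (φ.hom.app (op U)).hom (zres z U)) =
      (P.map (A.presheaf.map (homOfLE hVU).op).hom).eval₂ (φ.hom.app (op V)).hom (zres z V) := by
    rw [Polynomial.hom_eval₂, Polynomial.eval₂_map, zres_res z hVU]
    congr 1
    exact congrArg CommRingCat.Hom.hom (φ.hom.naturality (homOfLE hVU).op).symm
  simp only [Polynomial.coe_eval₂RingHom]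
  rw [evalOne_eval₂]
  refine Eq.trans ?_ (congrArg (evalOne _ (hbij V hV)) e.symm)
  rw [evalOne_eval₂, Polynomial.eval_map, ← Polynomial.coe_evalRingHom, Polynomial.eval₂_at_one]
  rfl

variable {p chart}

lemma coneChart_res (hP : RelProj.IsRelProj Sh p chart) {U V : Y.AffineZariskiSite} (i : V ⟶ U) :
    Spec.map (A.presheaf.map (homOfLE (Scheme.AffineZariskiSite.toOpens_mono i.le)).op) ≫
      coneChart φ z hz hbij p chart U.1 U.2 = coneChart φ z hz hbij p chart V.1 V.2 := by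
  have h : ∃ r : Γ(Y, U.1), Y.basicOpen r = V.1 := i.le
  have e := ProjQMapX.map_res_emb_of_basic hP U.2 V.2 (Scheme.AffineZariskiSite.toOpens_mono i.le) h
  rw [coneChart, coneChart, ← e,
    ProjQMapX.awayι_comp_map_to_assoc _ _ (zres_res z _) one_pos (hz U.1 U.2),
    ← Spec.map_comp_assoc, ← Spec.map_comp_assoc]
  congr 2
  exact CommRingCat.hom_ext (dehom_res φ z hz hbij U.2 V.2 _)

/-- There is exactly one dehomogenization morphism. -/
theorem existsUnique_coneMap (hP : RelProj.IsRelProj Sh p chart) :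
    ∃! i : A.spec ⟶ P, ∀ (U : Y.Opens) (hU : IsAffineOpen U),
      A.ι U hU ≫ i = coneChart φ z hz hbij p chart U hU := by
  let c : Cocone A.glueData.functor :=
    { pt := P
      ι :=
        { app := fun U => coneChart φ z hz hbij p chart U.1 U.2
          naturality := fun V U i => (coneChart_res φ z hz hbij hP i).trans (Category.comp_id _).symm } }
  refine ⟨colimit.desc _ c, fun U hU => colimit.ι_desc c ⟨U, hU⟩, fun i hi => ?_⟩
  exact colimit.hom_ext fun U => (hi U.1 U.2).trans (colimit.ι_desc c U).symm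

variable {i : A.spec ⟶ P}
  (hi : ∀ (U : Y.Opens) (hU : IsAffineOpen U), A.ι U hU ≫ i = coneChart φ z hz hbij p chart U hU)

include hi in
theorem coneMap_comp (hP : RelProj.IsRelProj Sh p chart) : i ≫ p = A.π := by
  refine RelSpecX.spec_hom_ext fun y => ?_
  obtain ⟨_, ⟨U, hU₀, rfl⟩, hyU, -⟩ := Y.isBasis_affineOpens.exists_subset_of_mem_open
    (Set.mem_univ y) isOpen_univ
  have hU : IsAffineOpen U := hU₀
  refine ⟨U, hU, hyU, ?_⟩
  rw [reassoc_of% (hi U hU), A.ι_π, coneChart, Category.assoc, ProjBC35.awayι_emb_comp hP,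
    ← Spec.map_comp_assoc]
  congr 2
  refine CommRingCat.hom_ext (RingHom.ext fun r => ?_)
  show baseHom _ _ (ProjBC35.baseToAway (Sh.str.app (op U)).hom (Sh.str_mem U hU) _ r) = _
  rw [baseHom_of_val _ _ _ ((Sh.str.app (op U)).hom r) 0
    (by rw [ProjBC35.val_baseToAway, ← Localization.mk_one_eq_algebraMap]; congr 1; exact Subtype.ext (pow_zero _).symm)]
  rw [show (Sh.str.app (op U)).hom r = (φ.hom.app (op U)).hom ((A.str.app (op U)).hom r) from
    congr($(NatTrans.congr_app φ.comm (op U)).hom r).symm, evalOne_map]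

include hi hb in
theorem restrict_eq (hP : RelProj.IsRelProj Sh p chart) (U : Y.Opens) (hU : IsAffineOpen U) :
    ∃ (e : ((i ⁻¹ᵁ (p ⁻¹ᵁ U) : A.spec.Opens) : Scheme.{u}) ≅
        Spec (CommRingCat.of (Away (Sh.deg U hU) (zres z U)))),
      i ∣_ (p ⁻¹ᵁ U) = e.hom ≫ Proj.awayι (Sh.deg U hU) (zres z U) (hz U hU) one_pos ≫ (chart U hU).inv := by
  have hpre : i ⁻¹ᵁ (p ⁻¹ᵁ U) = A.π ⁻¹ᵁ U := by
    show (i ≫ p) ⁻¹ᵁ U = _
    rw [coneMap_comp φ z hz hbij hi hP]
  have hr : Set.range (i ⁻¹ᵁ (p ⁻¹ᵁ U)).ι = Set.range (A.ι U hU) := by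
    rw [Scheme.Opens.range_ι, hpre, A.π_preimage U hU]
    rfl
  have : IsIso (CommRingCat.ofHom (dehom φ z hbij U hU)) :=
    (RingEquiv.ofBijective _ (hb U hU)).toCommRingCatIso.isIso_hom
  refine ⟨IsOpenImmersion.isoOfRangeEq _ _ hr ≪≫ asIso (Spec.map (CommRingCat.ofHom (dehom φ z hbij U hU))), ?_⟩
  rw [← cancel_mono (p ⁻¹ᵁ U).ι, morphismRestrict_ι]
  conv_lhs => rw [← IsOpenImmersion.isoOfRangeEq_hom_fac (i ⁻¹ᵁ (p ⁻¹ᵁ U)).ι (A.ι U hU) hr,
    Category.assoc, hi U hU]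
  simp [coneChart, RelProj.emb, dehom]

include hi hb in
theorem of_awayι (hP : RelProj.IsRelProj Sh p chart) (Pr : MorphismProperty Scheme.{u})
    [IsZariskiLocalAtTarget Pr]
    (h : ∀ (U : Y.Opens) (hU : IsAffineOpen U),
      Pr (Proj.awayι (Sh.deg U hU) (zres z U) (hz U hU) one_pos)) : Pr i := by
  refine IsZariskiLocalAtTarget.of_iSup_eq_top (fun U : Y.affineOpens ↦ p ⁻¹ᵁ U.1)
    (by rw [← p.preimage_iSup, iSup_affineOpens_eq_top, p.preimage_top]) fun U ↦ ?_
  obtain ⟨e, he⟩ := restrict_eq φ z hz hbij hb hi hP U.1 U.2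
  rw [he, MorphismProperty.cancel_left_of_respectsIso Pr, MorphismProperty.cancel_right_of_respectsIso Pr]
  exact h U.1 U.2

omit hz in
lemma isAffineHom_awayι {A σ : Type u} [CommRing A] [SetLike σ A] [AddSubgroupClass σ A] (𝒜 : ℕ → σ)
    [GradedRing 𝒜] {f : A} {d : ℕ} (hf : f ∈ 𝒜 d) (hd : 0 < d) :
    IsAffineHom (Proj.awayι 𝒜 f hf hd) :=
  IsAffineHom.of_comp _ (Proj.toSpecZero 𝒜)

include hi hb in
theorem isOpenImmersion_coneMap (hP : RelProj.IsRelProj Sh p chart) : IsOpenImmersion i :=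
  of_awayι φ z hz hbij hb hi hP @IsOpenImmersion fun _ _ => inferInstance

include hi hb in
theorem isAffineHom_coneMap (hP : RelProj.IsRelProj Sh p chart) : IsAffineHom i :=
  of_awayι φ z hz hbij hb hi hP @IsAffineHom fun U hU => isAffineHom_awayι _ (hz U hU) one_pos

include hbij in
lemma zres_mem_nonZeroDivisors (U : Y.Opens) (hU : IsAffineOpen U) :
    zres z U ∈ nonZeroDivisors (Sh.presheaf.obj (op U)) := by
  refine mem_nonZeroDivisors_iff_right.mpr fun b hb => ?_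
  obtain ⟨P, rfl⟩ := (hbij U hU).2 b
  have : (Polynomial.eval₂RingHom (φ.hom.app (op U)).hom (zres z U)) (P * Polynomial.X) = 0 := by
    rw [map_mul]; simpa using hb
  have h2 := (hbij U hU).1 (this.trans (map_zero _).symm)
  rw [show P = 0 from Polynomial.ext fun n => by
    simpa using congrArg (fun Q => Polynomial.coeff Q (n + 1)) h2, map_zero]

lemma ker_eq_of_iso_left {X Y Z W : Scheme.{u}} (a : X ⟶ Y) [IsIso a] (f : Y ⟶ Z) (g : Z ⟶ W) [IsIso g]
    (h : f.ker = ⊥) : (a ≫ f ≫ g).ker = ⊥ := by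
  rw [Scheme.Hom.ker_comp_of_isIso, ← Scheme.IdealSheafData.map_bot, Scheme.IdealSheafData.map_comp,
    Scheme.IdealSheafData.map_bot, h, Scheme.IdealSheafData.map_bot, Scheme.Hom.ker_eq_bot_of_isIso]

include hi hb in
theorem ker_coneMap (hP : RelProj.IsRelProj Sh p chart) : i.ker = ⊥ := by
  have := isAffineHom_coneMap φ z hz hbij hb hi hP
  refine Scheme.IdealSheafData.ext_of_iSup_eq_top
    (fun V : Σ U : Y.affineOpens, (p ⁻¹ᵁ U.1).toScheme.affineOpens =>
      ⟨(p ⁻¹ᵁ V.1.1).ι ''ᵁ V.2.1, V.2.2.image_of_isOpenImmersion _⟩) ?_ ?_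
  · refine eq_top_iff.mpr fun x _ => ?_
    obtain ⟨_, ⟨U, hU, rfl⟩, hxU, -⟩ := Y.isBasis_affineOpens.exists_subset_of_mem_open
      (Set.mem_univ (p x)) isOpen_univ
    obtain ⟨_, ⟨V, hV, rfl⟩, hxV, -⟩ := (p ⁻¹ᵁ U).toScheme.isBasis_affineOpens.exists_subset_of_mem_open
      (Set.mem_univ (⟨x, hxU⟩ : (p ⁻¹ᵁ U : P.Opens))) isOpen_univ
    exact Opens.mem_iSup.mpr ⟨⟨⟨U, hU⟩, ⟨V, hV⟩⟩, ⟨_, hxV, rfl⟩⟩
  · rintro ⟨⟨U, hU⟩, V⟩
    let W : P.Opens := p ⁻¹ᵁ U
    obtain ⟨e, he⟩ := restrict_eq φ z hz hbij hb hi hP U hU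
    have h0 : (i ∣_ W).ker = ⊥ := by
      rw [he]
      refine ker_eq_of_iso_left _ _ _ ?_
      rw [show Proj.awayι (Sh.deg U hU) (zres z U) (hz U hU) one_pos =
          (Proj.basicOpenIsoSpec (Sh.deg U hU) (zres z U) (hz U hU) one_pos).inv ≫ Scheme.Opens.ι _ from rfl,
        Scheme.Hom.ker_comp_of_isIso]
      exact Proj16.ker_basicOpen_ι (Sh.deg U hU) one_pos (hz U hU) (zres_mem_nonZeroDivisors φ z hbij U hU)
    have h1 := Scheme.ker_morphismRestrict_ideal i W V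
    rw [h0] at h1
    exact h1.symm.trans (by simp; rfl)

include hi hb in
theorem range_coneMap (hP : RelProj.IsRelProj Sh p chart) (U : Y.Opens) (hU : IsAffineOpen U) :
    Set.range i ∩ (p ⁻¹ᵁ U : Set P) =
      RelProj.emb p chart U hU '' (Proj.basicOpen (Sh.deg U hU) (zres z U) : Set (Proj (Sh.deg U hU))) := by
  have hc : Set.range (coneChart φ z hz hbij p chart U hU) =
      RelProj.emb p chart U hU '' (Proj.basicOpen (Sh.deg U hU) (zres z U) : Set (Proj (Sh.deg U hU))) := by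
    have : IsIso (CommRingCat.ofHom (dehom φ z hbij U hU)) :=
      (RingEquiv.ofBijective _ (hb U hU)).toCommRingCatIso.isIso_hom
    rw [coneChart, Scheme.Hom.comp_base, TopCat.coe_comp, Scheme.Hom.comp_base, TopCat.coe_comp,
      Set.range_comp, Set.range_eq_univ.mpr (Scheme.Hom.surjective _), Set.image_univ, Set.range_comp,
      show Set.range (Proj.awayι (Sh.deg U hU) (zres z U) (hz U hU) one_pos) = _ from
        congrArg (fun O : (Proj (Sh.deg U hU)).Opens => (O : Set (Proj (Sh.deg U hU))))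
          (Proj.opensRange_awayι (Sh.deg U hU) (zres z U) (hz U hU) one_pos)]
  rw [← hc, ← hi U hU]
  refine Set.ext fun x => ⟨?_, ?_⟩
  · rintro ⟨⟨y, rfl⟩, hy⟩
    have hy' : y ∈ (A.ι U hU).opensRange := by
      rw [← A.π_preimage U hU]
      show A.π y ∈ U
      rw [← coneMap_comp φ z hz hbij hi hP]
      exact hy
    obtain ⟨w, rfl⟩ := hy'
    exact ⟨w, rfl⟩
  · rintro ⟨w, rfl⟩
    refine ⟨⟨A.ι U hU w, rfl⟩, ?_⟩
    show p ((A.ι U hU ≫ i) w) ∈ U
    rw [hi U hU]
    exact ProjQMapX.emb_mem U hU _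

end Groth.Agent.ConeLib35
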