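import Groth.Agent.ConeLib35.LineRing
import Groth.Agent.ConeLib35.Cone
import Mathlib.RingTheory.PolynomialAlgebra
import Mathlib.RingTheory.TensorProduct.MonoidAlgebra
import Mathlib.Algebra.Category.Ring.Constructions
import Mathlib.Algebra.Polynomial.Laurent
import Mathlib.AlgebraicGeometry.ResidueField
import Mathlib.AlgebraicGeometry.Morphisms.FiniteType

/-!
Fibres of the retraction of a pointed cone.
-/

universe u

open CategoryTheory CategoryTheory.Limits AlgebraicGeometry TopologicalSpace Opposite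
open HomogeneousLocalization
open scoped HomogeneousIdeal AlgebraMonoidAlgebra

noncomputable section

namespace Groth.Agent.ConeLib35

attribute [local instance] Polynomial.algebra

lemma isPushout_polynomial {R : Type u} [CommRing R] {K : Type u} [CommRing K] (h : R →+* K) :
    IsPushout (CommRingCat.ofHom h) (CommRingCat.ofHom (Polynomial.C : R →+* Polynomial R))
      (CommRingCat.ofHom (Polynomial.C : K →+* Polynomial K)) (CommRingCat.ofHom (Polynomial.mapRingHom h)) := by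
  let := h.toAlgebra
  exact CommRingCat.isPushout_of_isPushout R K (Polynomial R) (Polynomial K)

lemma isPushout_laurent {R : Type u} [CommRing R] {K : Type u} [CommRing K] (h : R →+* K) :
    IsPushout (CommRingCat.ofHom h) (CommRingCat.ofHom (algebraMap R (LaurentPolynomial R)))
      (CommRingCat.ofHom (algebraMap K (LaurentPolynomial K)))
      (CommRingCat.ofHom (AddMonoidAlgebra.mapRingHom ℤ h)) := by
  let := h.toAlgebra
  exact CommRingCat.isPushout_of_isPushout R K (LaurentPolynomial R) (LaurentPolynomial K)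

/-- A fibre read on an affine chart of the target. -/
theorem exists_fibre_iso {X P : Scheme.{u}} (r : X ⟶ P) {R L : CommRingCat.{u}} {φ : R ⟶ L}
    {g : Spec L ⟶ X} {j : Spec R ⟶ P} [IsOpenImmersion j] (h : IsPullback g (Spec.map φ) r j)
    (F : (K : Type u) → [Field K] → CommRingCat.{u}) (c : ∀ (K : Type u) [Field K], CommRingCat.of K ⟶ F K)
    (hF : ∀ (K : Type u) [Field K] (h : R ⟶ CommRingCat.of K), ∃ k : L ⟶ F K, IsPushout h φ (c K) k)
    (x : P) (hx : x ∈ Set.range j) :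
    ∃ e : pullback r (P.fromSpecResidueField x) ≅ Spec (F (P.residueField x)),
      e.hom ≫ Spec.map (c (P.residueField x)) = pullback.snd r (P.fromSpecResidueField x) := by
  have hsub : Set.range (P.fromSpecResidueField x) ⊆ Set.range j := by
    rw [Scheme.range_fromSpecResidueField]
    exact Set.singleton_subset_iff.mpr hx
  obtain ⟨k, hk⟩ := hF (P.residueField x) (Spec.preimage (IsOpenImmersion.lift j _ hsub))
  have h2 := (isPullback_SpecMap_of_isPushout _ _ _ _ hk).flip.paste_horiz h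
  rw [Spec.map_preimage, IsOpenImmersion.lift_fac] at h2
  exact ⟨h2.isoPullback.symm, h2.isoPullback_inv_snd⟩

section diag

variable {Y : Scheme.{u}} {𝒜 ℬ : RelProj.QCGrAlg Y} {φ : 𝒜.toQCAlg ⟶ ℬ.toQCAlg} {hφ : RelProj.IsGradedHom φ}
  {PA : Scheme.{u}} {pA : PA ⟶ Y}
  {chartA : ∀ (U : Y.Opens) (hU : IsAffineOpen U), (((pA ⁻¹ᵁ U : PA.Opens) : Scheme.{u}) ≅ Proj (𝒜.deg U hU))}
  {PB : Scheme.{u}} {pB : PB ⟶ Y}
  {chartB : ∀ (U : Y.Opens) (hU : IsAffineOpen U), (((pB ⁻¹ᵁ U : PB.Opens) : Scheme.{u}) ≅ Proj (ℬ.deg U hU))}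
  (hA : RelProj.IsRelProj 𝒜 pA chartA) (hB : RelProj.IsRelProj ℬ pB chartB)
  {W : PB.Opens} (hW : W = RelProj.domQ (RelProj.QGrHom.ofHom φ hφ) pB chartB)

include hA hB hW in
theorem exists_diag_pullback {r : (W : Scheme.{u}) ⟶ PA} (hr : DiagEq φ hφ pA chartA pB chartB W r)
    (U : Y.Opens) (hU : IsAffineOpen U) {d : ℕ} (hd : 0 < d) {f : 𝒜.presheaf.obj (op U)} (hf : f ∈ 𝒜.deg U hU d) :
    ∃ g : Spec (CommRingCat.of (Away (ℬ.deg U hU) (RelProj.gradedHomAt φ hφ U hU f))) ⟶ (W : Scheme.{u}),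
      g ≫ W.ι = Proj.awayι (ℬ.deg U hU) (RelProj.gradedHomAt φ hφ U hU f)
          ((RelProj.gradedHomAt φ hφ U hU).map_mem hf) hd ≫ RelProj.emb pB chartB U hU ∧
      IsOpenImmersion g ∧
      IsPullback g (Spec.map (CommRingCat.ofHom (Away.map (RelProj.gradedHomAt φ hφ U hU) f))) r
        (Proj.awayι (𝒜.deg U hU) f hf hd ≫ RelProj.emb pA chartA U hU) := by
  have hq := isProjQMapOn_of_diagEq hA hB hW hr
  subst hW
  have hsub : Set.range (Proj.awayι (ℬ.deg U hU) (RelProj.gradedHomAt φ hφ U hU f)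
      ((RelProj.gradedHomAt φ hφ U hU).map_mem hf) hd ≫ RelProj.emb pB chartB U hU) ⊆
      Set.range (RelProj.domQ (RelProj.QGrHom.ofHom φ hφ) pB chartB).ι := by
    rintro _ ⟨y, rfl⟩
    rw [Scheme.Opens.range_ι]
    refine ProjQMapX.emb_mem_domQ _ U hU U hU le_rfl ?_
    rw [ProjQMapX.ofHom_gradedAt]
    exact (ProjQMapX.mem_domOpen_iff _ _).mpr
      ⟨d, f, hd, hf, (Proj.opensRange_awayι (ℬ.deg U hU) _ _ hd).le ⟨y, rfl⟩⟩
  set g := IsOpenImmersion.lift _ _ hsub with hg_def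
  have hg : g ≫ _ = _ := IsOpenImmersion.lift_fac _ _ hsub
  have hgo : IsOpenImmersion g :=
    have : IsOpenImmersion (g ≫ (RelProj.domQ (RelProj.QGrHom.ofHom φ hφ) pB chartB).ι) := by
      rw [hg]; infer_instance
    IsOpenImmersion.of_comp g (RelProj.domQ (RelProj.QGrHom.ofHom φ hφ) pB chartB).ι
  refine ⟨g, hg, hgo, (IsOpenImmersion.isPullback _ g _ r ?_ ?_).flip⟩
  · exact hr U hU d hd f hf g hg
  · refine Opens.ext ?_
    show r ⁻¹' Set.range (Proj.awayι (𝒜.deg U hU) f hf hd ≫ RelProj.emb pA chartA U hU) = Set.range g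
    rw [ProjQMapX.range_toP_base U hU hd hf,
      ← ProjQMapX.range_lift_eq hA hB hq ⟨U, hU, U, hU, le_rfl, d, hd, f, hf⟩ rfl]
    ext y
    refine (ProjQMapX.mem_range_lift (RelProj.QGrHom.ofHom φ hφ)).trans (ProjQMapX.Chart.mem_range_emb.trans ?_)
    simp only [ProjQMapX.Chart.img, ProjQMapX.ofHom_gradedAt]
    rw [← Proj.opensRange_awayι (ℬ.deg U hU) (RelProj.gradedHomAt φ hφ U hU f)
      ((RelProj.gradedHomAt φ hφ U hU).map_mem hf) hd]
    constructor
    · rintro ⟨w, ⟨s, rfl⟩, hs⟩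
      refine ⟨s, (RelProj.domQ (RelProj.QGrHom.ofHom φ hφ) pB chartB).ι.isOpenEmbedding.injective ?_⟩
      rw [← Scheme.Hom.comp_apply, hg]
      exact hs
    · rintro ⟨s, rfl⟩
      exact ⟨_, ⟨s, rfl⟩, by rw [← Scheme.Hom.comp_apply, ← Scheme.Hom.comp_apply, hg]⟩

end diag

section charts

variable {Y PC P : Scheme.{u}} {𝒮 𝒮h : RelProj.QCGrAlg Y} {ι : 𝒮.toQCAlg ⟶ 𝒮h.toQCAlg}
  {z : 𝒮h.presheaf.obj (op ⊤)} (hz : RelCone.IsPolyOver 𝒮 𝒮h ι z) {pC : PC ⟶ Y}
  {chartC : ∀ (U : Y.Opens) (hU : IsAffineOpen U), (((pC ⁻¹ᵁ U : PC.Opens) : Scheme.{u}) ≅ Proj (𝒮h.deg U hU))}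
  (hPC : RelProj.IsRelProj 𝒮h pC chartC) {p : P ⟶ Y}
  {chart : ∀ (U : Y.Opens) (hU : IsAffineOpen U), (((p ⁻¹ᵁ U : P.Opens) : Scheme.{u}) ≅ Proj (𝒮.deg U hU))}
  (hP : RelProj.IsRelProj 𝒮 p chart)
  {r : ((RelCone.pointedProjCone 𝒮 hz pC chartC : PC.Opens) : Scheme.{u}) ⟶ P}
  (hr : DiagEq ι hz.graded p chart pC chartC (RelCone.pointedProjCone 𝒮 hz pC chartC) r)
include hPC hP hr

/-- The coordinate ring of a piece over a standard open of degree one, as a polynomial ring. -/
def lineEquiv (U : Y.Opens) (hU : IsAffineOpen U) {f : 𝒮.presheaf.obj (op U)} (hf : f ∈ 𝒮.deg U hU 1) :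
    Polynomial (Away (𝒮.deg U hU) f) ≃+* Away (𝒮h.deg U hU) (RelProj.gradedHomAt ι hz.graded U hU f) :=
  RingEquiv.ofBijective _ (line_bijective (RelProj.gradedHomAt ι hz.graded U hU) (hz.deg_z U hU) (hz.bij U hU) hf)

/-- Over a standard open of degree one the pointed projective cone is an affine line. -/
theorem exists_line_pullback (U : Y.Opens) (hU : IsAffineOpen U) {f : 𝒮.presheaf.obj (op U)}
    (hf : f ∈ 𝒮.deg U hU 1) :
    ∃ g : Spec (CommRingCat.of (Polynomial (Away (𝒮.deg U hU) f))) ⟶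
        ((RelCone.pointedProjCone 𝒮 hz pC chartC : PC.Opens) : Scheme.{u}),
      IsPullback g (Spec.map (CommRingCat.ofHom Polynomial.C)) r
        (Proj.awayι (𝒮.deg U hU) f hf one_pos ≫ RelProj.emb p chart U hU) ∧
      g ≫ (RelCone.pointedProjCone 𝒮 hz pC chartC).ι =
        Spec.map ((lineEquiv hz U hU hf).toCommRingCatIso.inv) ≫
          Proj.awayι (𝒮h.deg U hU) (RelProj.gradedHomAt ι hz.graded U hU f)
            ((RelProj.gradedHomAt ι hz.graded U hU).map_mem hf) one_pos ≫ RelProj.emb pC chartC U hU := by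
  obtain ⟨g, hg, -, hpb⟩ := exists_diag_pullback hP hPC (pointedProjCone_eq_domQ hz hPC) hr U hU one_pos hf
  refine ⟨Spec.map (lineEquiv hz U hU hf).toCommRingCatIso.inv ≫ g, ?_, by rw [Category.assoc, hg]⟩
  refine IsPullback.of_iso hpb (asIso (Spec.map (lineEquiv hz U hU hf).toCommRingCatIso.hom))
    (Iso.refl _) (Iso.refl _) (Iso.refl _) ?_ ?_ (by simp) (by simp)
  · rw [asIso_hom, Iso.refl_hom, Category.comp_id, ← Category.assoc, ← Spec.map_comp, Iso.inv_hom_id,
      Spec.map_id, Category.id_comp]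
  · simp only [asIso_hom, Iso.refl_hom, Category.comp_id, ← Spec.map_comp]
    congr 1
    refine CommRingCat.hom_ext (RingHom.ext fun r => ?_)
    exact (Polynomial.eval₂_C _ _).symm

variable {i : 𝒮.toQCAlg.spec ⟶ PC} (hi : RelCone.IsConeImm 𝒮 hz pC chartC i)
  {i' : ((RelCone.pointedCone 𝒮 : 𝒮.toQCAlg.spec.Opens) : Scheme.{u}) ⟶
    ((RelCone.pointedProjCone 𝒮 hz pC chartC : PC.Opens) : Scheme.{u})}
  (hi' : i' ≫ (RelCone.pointedProjCone 𝒮 hz pC chartC).ι = (RelCone.pointedCone 𝒮).ι ≫ i)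
include hi hi'

/-- Over a standard open of degree one the pointed affine cone is a punctured affine line. -/
theorem exists_torus_pullback (U : Y.Opens) (hU : IsAffineOpen U) {f : 𝒮.presheaf.obj (op U)}
    (hf : f ∈ 𝒮.deg U hU 1) :
    ∃ g : Spec (CommRingCat.of (LaurentPolynomial (Away (𝒮.deg U hU) f))) ⟶
        ((RelCone.pointedCone 𝒮 : 𝒮.toQCAlg.spec.Opens) : Scheme.{u}),
      IsPullback g (Spec.map (CommRingCat.ofHom (algebraMap (Away (𝒮.deg U hU) f) (LaurentPolynomial (Away (𝒮.deg U hU) f)))))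
        (i' ≫ r) (Proj.awayι (𝒮.deg U hU) f hf one_pos ≫ RelProj.emb p chart U hU) := by
  obtain ⟨g, hpb, hg⟩ := exists_line_pullback hz hPC hP hr U hU hf
  have : IsOpenImmersion i := isOpenImmersion_coneImm hz hPC hi
  have hio : IsOpenImmersion i' :=
    have : IsOpenImmersion (i' ≫ (RelCone.pointedProjCone 𝒮 hz pC chartC).ι) := by rw [hi']; infer_instance
    IsOpenImmersion.of_comp i' (RelCone.pointedProjCone 𝒮 hz pC chartC).ι
  let R := Away (𝒮.deg U hU) f
  let q : Spec (CommRingCat.of (LaurentPolynomial R)) ⟶ Spec (CommRingCat.of (Polynomial R)) :=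
    Spec.map (CommRingCat.ofHom (algebraMap (Polynomial R) (LaurentPolynomial R)))
  have hq : IsOpenImmersion q := IsOpenImmersion.of_isLocalization (Polynomial.X : Polynomial R)
  have hqr : Set.range q =
      ((PrimeSpectrum.basicOpen (Polynomial.X : Polynomial R) : Opens (PrimeSpectrum (Polynomial R))) :
        Set (PrimeSpectrum (Polynomial R))) :=
    PrimeSpectrum.localization_away_comap_range (LaurentPolynomial R) (Polynomial.X : Polynomial R)
  have hgo : IsOpenImmersion g :=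
    MorphismProperty.of_isPullback hpb.flip inferInstance
  have hmem : ∀ s, g s ∈ Set.range i' ↔ s ∈ Set.range q := by
    intro s
    rw [hqr]
    have h1 : g s ∈ Set.range i' ↔
        (RelCone.pointedProjCone 𝒮 hz pC chartC).ι (g s) ∈ Set.range i := by
      constructor
      · rintro ⟨y, hy⟩
        refine ⟨(RelCone.pointedCone 𝒮).ι y, ?_⟩
        rw [← Scheme.Hom.comp_apply, ← hi', Scheme.Hom.comp_apply, hy]
      · rintro ⟨y, hy⟩
        have hy' : y ∈ RelCone.pointedCone 𝒮 := by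
          rw [← preimage_pointedProjCone hz hPC hi]
          show i y ∈ RelCone.pointedProjCone 𝒮 hz pC chartC
          rw [hy]
          exact (g s).2
        refine ⟨⟨y, hy'⟩, (RelCone.pointedProjCone 𝒮 hz pC chartC).ι.isOpenEmbedding.injective ?_⟩
        rw [← Scheme.Hom.comp_apply, hi', Scheme.Hom.comp_apply]
        exact hy
    rw [h1, ← Scheme.Hom.comp_apply, hg, Scheme.Hom.comp_apply, Scheme.Hom.comp_apply,
      emb_mem_range_iff hz hPC hi U hU]
    refine (SetLike.ext_iff.mp (Proj.awayι_preimage_basicOpen (𝒮h.deg U hU)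
      ((RelProj.gradedHomAt ι hz.graded U hU).map_mem hf) one_pos (hz.deg_z U hU) one_pos) _).trans ?_
    show (lineEquiv hz U hU hf).symm (Away.isLocalizationElem
      ((RelProj.gradedHomAt ι hz.graded U hU).map_mem hf) (hz.deg_z U hU)) ∉ s.asIdeal ↔ _
    rw [show Away.isLocalizationElem ((RelProj.gradedHomAt ι hz.graded U hU).map_mem hf) (hz.deg_z U hU) =
      lineEquiv hz U hU hf Polynomial.X from
        (lineCoord_eq (RelProj.gradedHomAt ι hz.graded U hU) (hz.deg_z U hU) hf).symm.trans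
          (Polynomial.eval₂_X _ _).symm, RingEquiv.symm_apply_apply]
    rfl
  have hsub : Set.range (q ≫ g) ⊆ Set.range i' := by
    rintro _ ⟨s, rfl⟩
    exact (hmem _).mpr ⟨s, rfl⟩
  have hk : IsPullback (IsOpenImmersion.lift i' (q ≫ g) hsub) q i' g := by
    refine IsOpenImmersion.isPullback _ _ _ _ (IsOpenImmersion.lift_fac _ _ hsub).symm ?_
    refine Opens.ext (Set.ext fun s => ?_)
    exact hmem s
  refine ⟨IsOpenImmersion.lift i' (q ≫ g) hsub, ?_⟩
  have h2 := hk.paste_vert hpb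
  have e : q ≫ Spec.map (CommRingCat.ofHom (Polynomial.C : R →+* Polynomial R)) =
      Spec.map (CommRingCat.ofHom (algebraMap R (LaurentPolynomial R))) := by
    rw [← Spec.map_comp, ← CommRingCat.ofHom_comp]
    congr 2
    exact RingHom.ext fun r => Polynomial.toLaurent_C r
  rwa [e] at h2

end charts

end Groth.Agent.ConeLib35
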