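import Groth.Agent.ConeLib35.PointRing

/-!
Over a standard open of degree one the pointed projective cone is an affine line.
-/

universe u

open CategoryTheory AlgebraicGeometry HomogeneousLocalization
open scoped HomogeneousIdeal

noncomputable section

namespace Groth.Agent.ConeLib35

variable {A B : Type u} [CommRing A] [CommRing B]
variable {σ : Type u} [SetLike σ A] [AddSubgroupClass σ A] {𝒜 : ℕ → σ} [GradedRing 𝒜]
variable {τ : Type u} [SetLike τ B] [AddSubgroupClass τ B] {ℬ : ℕ → τ} [GradedRing ℬ]
variable (ψ : 𝒜 →+*ᵍ ℬ) {z : B} (hz : z ∈ ℬ 1)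
  (hbij : Function.Bijective (Polynomial.eval₂RingHom (ψ : A →+* B) z)) {f : A} (hf : f ∈ 𝒜 1)

/-- The coordinate of the line: the variable divided by the element. -/
def lineCoord : Away ℬ (ψ f) := Away.mk ℬ (ψ.map_mem hf) 1 z (by simpa using hz)

omit [AddSubgroupClass σ A] [GradedRing 𝒜] in
lemma lineCoord_eq : lineCoord ψ hz hf = Away.isLocalizationElem (ψ.map_mem hf) hz := by
  refine val_injective _ ?_
  rw [lineCoord, Away.isLocalizationElem, Away.val_mk, Away.val_mk]
  simp

/-- Twisting the polynomial presentation by the element. -/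
def twistHom : B →+* Polynomial (Localization.Away f) :=
  (Polynomial.eval₂RingHom (Polynomial.C.comp (algebraMap A (Localization.Away f)))
      (Polynomial.C (algebraMap A (Localization.Away f) f) * Polynomial.X)).comp
    (RingEquiv.ofBijective _ hbij).symm.toRingHom

omit [AddSubgroupClass σ A] [GradedRing 𝒜] [AddSubgroupClass τ B] [GradedRing ℬ] in
lemma twistHom_eval₂ (P : Polynomial A) :
    twistHom ψ hbij (P.eval₂ (ψ : A →+* B) z) =
      P.eval₂ (Polynomial.C.comp (algebraMap A (Localization.Away f)))
        (Polynomial.C (algebraMap A (Localization.Away f) f) * Polynomial.X) :=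
  congrArg (Polynomial.eval₂ _ _) ((RingEquiv.ofBijective _ hbij).symm_apply_apply P)

omit [AddSubgroupClass σ A] [GradedRing 𝒜] [AddSubgroupClass τ B] [GradedRing ℬ] in
lemma twistHom_map (a : A) :
    twistHom (f := f) ψ hbij (ψ a) = Polynomial.C (algebraMap A (Localization.Away f) a) := by
  simpa using twistHom_eval₂ (f := f) ψ hbij (Polynomial.C a)

omit [AddSubgroupClass σ A] [GradedRing 𝒜] [AddSubgroupClass τ B] [GradedRing ℬ] in
lemma twistHom_z :
    twistHom (f := f) ψ hbij z = Polynomial.C (algebraMap A (Localization.Away f) f) * Polynomial.X := by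
  simpa using twistHom_eval₂ (f := f) ψ hbij Polynomial.X

/-- The twisted presentation on the localization. -/
def twistLift : Localization.Away (ψ f) →+* Polynomial (Localization.Away f) :=
  IsLocalization.Away.lift (ψ f) (g := twistHom (f := f) ψ hbij)
    (by rw [twistHom_map]; exact (IsLocalization.Away.algebraMap_isUnit f).map Polynomial.C)

include hbij in
theorem line_injective :
    Function.Injective (Polynomial.eval₂RingHom (Away.map ψ f) (lineCoord ψ hz hf)) := by
  have key : (twistLift (f := f) ψ hbij).comp
      ((algebraMap (Away ℬ (ψ f)) (Localization.Away (ψ f))).comp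
        (Polynomial.eval₂RingHom (Away.map ψ f) (lineCoord ψ hz hf))) =
      Polynomial.mapRingHom (algebraMap (Away 𝒜 f) (Localization.Away f)) := by
    refine Polynomial.ringHom_ext (fun r => ?_) ?_
    · obtain ⟨n, a, ha, rfl⟩ := r.mk_surjective 𝒜 hf
      simp only [RingHom.comp_apply, Polynomial.coe_eval₂RingHom, Polynomial.eval₂_C,
        Polynomial.coe_mapRingHom, Polynomial.map_C, HomogeneousLocalization.algebraMap_apply, Away.map_mk,
        Away.val_mk, Localization.mk_eq_mk']
      rw [twistLift, IsLocalization.Away.lift, IsLocalization.lift_mk', Units.mul_inv_eq_iff_eq_mul,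
        IsUnit.coe_liftRight]
      simp only [MonoidHom.domRestrict_apply, RingHom.toMonoidHom_eq_coe, MonoidHom.coe_coe, map_pow,
        twistHom_map]
      rw [← map_pow, ← map_mul, ← map_pow (algebraMap A (Localization.Away f))]
      exact congrArg Polynomial.C (IsLocalization.mk'_spec (Localization.Away f) a (⟨f ^ n, n, rfl⟩ : Submonoid.powers f)).symm
    · simp only [RingHom.comp_apply, Polynomial.coe_eval₂RingHom, Polynomial.eval₂_X,
        Polynomial.coe_mapRingHom, Polynomial.map_X, HomogeneousLocalization.algebraMap_apply, lineCoord,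
        Away.val_mk, Localization.mk_eq_mk']
      rw [twistLift, IsLocalization.Away.lift, IsLocalization.lift_mk', Units.mul_inv_eq_iff_eq_mul,
        IsUnit.coe_liftRight]
      simp only [MonoidHom.domRestrict_apply, RingHom.toMonoidHom_eq_coe, MonoidHom.coe_coe, twistHom_map,
        twistHom_z, pow_one]
      exact mul_comm _ _
  have hinj : Function.Injective (algebraMap (Away 𝒜 f) (Localization.Away f)) := val_injective _
  have := Polynomial.map_injective _ hinj
  rw [← Polynomial.coe_mapRingHom, ← key, RingHom.coe_comp, RingHom.coe_comp] at this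
  exact Function.Injective.of_comp (Function.Injective.of_comp this)

include hbij in
theorem line_surjective :
    Function.Surjective (Polynomial.eval₂RingHom (Away.map ψ f) (lineCoord ψ hz hf)) := by
  intro q
  obtain ⟨n, b, hb, rfl⟩ := q.mk_surjective ℬ (ψ.map_mem hf)
  obtain ⟨P, rfl⟩ := hbij.2 b
  have hb' : P.eval₂ (ψ : A →+* B) z ∈ ℬ n := by simpa using hb
  let c : ℕ → Away 𝒜 f := fun j =>
    Away.mk 𝒜 hf (n - j) (P.coeff j) (by simpa using coeff_mem ψ hz hbij P hb' j)
  refine ⟨∑ j ∈ Finset.range (n + 1), Polynomial.C (c j) * Polynomial.X ^ j, ?_⟩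
  refine (show Function.Injective (algebraMap (Away ℬ (ψ f)) (Localization.Away (ψ f))) from val_injective _) ?_
  simp only [map_sum, map_mul, map_pow, Polynomial.coe_eval₂RingHom, Polynomial.eval₂_C, Polynomial.eval₂_X]
  simp only [c, lineCoord, HomogeneousLocalization.algebraMap_apply, Away.map_mk, Away.val_mk]
  have hdeg : P.natDegree ≤ n := by
    refine Polynomial.natDegree_le_iff_coeff_eq_zero.mpr fun j hj => ?_
    rw [coeff_eq_proj ψ hz hbij P hb' j, if_neg (by omega)]
  simp only [Polynomial.eval₂_eq_sum_range' (ψ : A →+* B) (Nat.lt_succ_of_le hdeg) z]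
  rw [Localization.mk_sum]
  refine Finset.sum_congr rfl fun j hj => ?_
  rw [Localization.mk_pow, Localization.mk_mul, Localization.mk_eq_mk_iff, Localization.r_iff_exists]
  refine ⟨1, ?_⟩
  have hjn : j ≤ n := Nat.le_of_lt_succ (Finset.mem_range.mp hj)
  simp only [OneMemClass.coe_one, one_mul, Submonoid.coe_mul, SubmonoidClass.coe_pow, RingHom.coe_coe, pow_one]
  rw [← pow_add, Nat.sub_add_cancel hjn]
  rfl

include hbij in
theorem line_bijective :
    Function.Bijective (Polynomial.eval₂RingHom (Away.map ψ f) (lineCoord ψ hz hf)) :=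
  ⟨line_injective ψ hz hbij hf, line_surjective ψ hz hbij hf⟩

end Groth.Agent.ConeLib35
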