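import Groth.Agent.ConeLib35.Deh

/-!
Points of the homogeneous spectrum of a graded ring with a polynomial variable.
-/

universe u

open CategoryTheory AlgebraicGeometry HomogeneousLocalization
open scoped HomogeneousIdeal

noncomputable section

namespace Groth.Agent.ConeLib35

variable {A B : Type u} [CommRing A] [CommRing B]
variable {σ : Type u} [SetLike σ A] [AddSubgroupClass σ A] {𝒜 : ℕ → σ} [GradedRing 𝒜]
variable {τ : Type u} [SetLike τ B] [AddSubgroupClass τ B] {ℬ : ℕ → τ} [GradedRing ℬ]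
variable (ψ : 𝒜 →+*ᵍ ℬ) {z : B} (hz : z ∈ ℬ 1)
  (hbij : Function.Bijective (Polynomial.eval₂RingHom (ψ : A →+* B) z))

/-- Setting the variable to `0`, as a graded homomorphism. -/
def evalZero : ℬ →+*ᵍ 𝒜 :=
  { (Polynomial.evalRingHom 0).comp (RingEquiv.ofBijective _ hbij).symm.toRingHom with
    map_mem := fun {n b} hb => by
      obtain ⟨P, rfl⟩ := hbij.2 b
      show Polynomial.eval 0 ((RingEquiv.ofBijective _ hbij).symm _) ∈ 𝒜 n
      rw [show (RingEquiv.ofBijective _ hbij).symm (Polynomial.eval₂RingHom (ψ : A →+* B) z P) = P from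
        (RingEquiv.ofBijective _ hbij).symm_apply_apply P, ← Polynomial.coeff_zero_eq_eval_zero]
      simpa using coeff_mem ψ hz hbij P hb 0 }

lemma evalZero_eval₂ (P : Polynomial A) :
    evalZero ψ hz hbij (P.eval₂ (ψ : A →+* B) z) = P.eval 0 :=
  congrArg (Polynomial.eval 0) ((RingEquiv.ofBijective _ hbij).symm_apply_apply P)

lemma evalZero_map (a : A) : evalZero ψ hz hbij (ψ a) = a := by
  simpa using evalZero_eval₂ ψ hz hbij (Polynomial.C a)

lemma evalZero_z : evalZero ψ hz hbij z = 0 := by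
  simpa using evalZero_eval₂ ψ hz hbij Polynomial.X

omit [AddSubgroupClass σ A] [GradedRing 𝒜] [AddSubgroupClass τ B] [GradedRing ℬ] in
include hbij in
/-- A retraction killing the variable is congruent to the identity modulo the variable. -/
lemma sub_map_mem_span (θ : B →+* A) (hθ : ∀ a, θ (ψ a) = a) (hθz : θ z = 0) (b : B) :
    b - ψ (θ b) ∈ Ideal.span {z} := by
  obtain ⟨P, rfl⟩ := hbij.2 b
  induction P using Polynomial.induction_on' with
  | add P Q hP hQ =>
    simp only [map_add]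
    rw [add_sub_add_comm]
    exact add_mem hP hQ
  | monomial n a =>
    cases n with
    | zero => simp [hθ]
    | succ k =>
      simp only [Polynomial.coe_eval₂RingHom, Polynomial.eval₂_monomial, RingHom.coe_coe, map_mul,
        map_pow, hθz]
      rw [Ideal.mem_span_singleton]
      simp [zero_pow (Nat.succ_ne_zero k), dvd_mul_of_dvd_right]

include hz hbij in
/-- Outside `D₊(z)` the map induced by `ψ` is defined. -/
lemma mem_domOpen_of_z_mem (w : Proj ℬ) (hw : z ∈ w.asHomogeneousIdeal) : w ∈ RelCone.domOpen ψ := by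
  rw [RelCone.mem_domOpen]
  by_contra! hne
  refine w.not_irrelevant_le fun b hb => ?_
  show b ∈ w.asHomogeneousIdeal.toIdeal
  have h1 := sub_map_mem_span ψ hbij (evalZero ψ hz hbij : B →+* A) (evalZero_map ψ hz hbij)
    (evalZero_z ψ hz hbij) b
  have h3 : evalZero ψ hz hbij b ∈ (HomogeneousIdeal.irrelevant 𝒜).toIdeal := by
    show GradedRing.proj 𝒜 0 _ = 0
    rw [proj_map, show GradedRing.proj ℬ 0 b = 0 from hb, map_zero]
  rw [show b = (b - ψ (evalZero ψ hz hbij b)) + ψ (evalZero ψ hz hbij b) by ring]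
  exact add_mem ((Ideal.span_singleton_le_iff_mem _).mpr hw h1) (hne _ h3)

include hz hbij in
/-- Membership of a point of `D₊(z)` in a standard open, read on the prime of `A` under it. -/
lemma awayι_mem_basicOpen_iff (p : Spec (CommRingCat.of A)) {d : ℕ} (hd : 0 < d) {a : A} (ha : a ∈ 𝒜 d) :
    Proj.awayι ℬ z hz one_pos
        (Spec.map (CommRingCat.ofHom (baseHom (ℬ := ℬ) (ψ : A →+* B) hbij)) p) ∈
        Proj.basicOpen ℬ (ψ a) ↔ a ∉ p.asIdeal := by
  refine (SetLike.ext_iff.mp (Proj.awayι_preimage_basicOpen ℬ hz one_pos (ψ.map_mem ha) hd)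
    (Spec.map (CommRingCat.ofHom (baseHom (ℬ := ℬ) (ψ : A →+* B) hbij)) p)).trans ?_
  show baseHom (ℬ := ℬ) (ψ : A →+* B) hbij (Away.isLocalizationElem hz (ψ.map_mem ha)) ∉ p.asIdeal ↔ _
  rw [Away.isLocalizationElem, baseHom_mk _ hz hbij, pow_one]
  erw [evalOne_map]

include hz hbij in
/-- The prime of `A` under a point of `D₊(z)` detects the domain. -/
lemma awayι_mem_domOpen_iff (p : Spec (CommRingCat.of A)) :
    Proj.awayι ℬ z hz one_pos
        (Spec.map (CommRingCat.ofHom (baseHom (ℬ := ℬ) (ψ : A →+* B) hbij)) p) ∈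
        RelCone.domOpen ψ ↔
      ∃ a ∈ (HomogeneousIdeal.irrelevant 𝒜).toIdeal, a ∉ p.asIdeal := by
  have key : ∀ (d : ℕ) (a : A), a ∈ 𝒜 d → 0 < d → _ := fun d a ha hd =>
    awayι_mem_basicOpen_iff ψ hz hbij p hd ha
  rw [ProjQMapX.mem_domOpen_iff]
  constructor
  · rintro ⟨d, a, hd, ha, h⟩
    exact ⟨a, HomogeneousIdeal.mem_irrelevant_of_mem _ hd ha, (key d a ha hd).mp h⟩
  · rintro ⟨a, ha, hne⟩
    obtain ⟨d, f, hd, hf, hfne⟩ :=
      ProjQMapX.exists_homogeneous_of_mem_irrelevant (GradedRingHom.id 𝒜) (I := p.asIdeal) ha hne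
    exact ⟨d, f, hd, hf, (key d f hf hd).mpr hfne⟩

include hz hbij in
/-- Points outside `D₊(z)` come from `Proj 𝒜`. -/
lemma exists_map_eq (θ : ℬ →+*ᵍ 𝒜) (hθ : ∀ a, θ (ψ a) = a) (hθz : θ z = 0)
    (hirr : 𝒜₊ ≤ (ℬ₊).map θ) (w : Proj ℬ) (hw : z ∈ w.asHomogeneousIdeal) :
    ∃ x : Proj 𝒜, Proj.map θ hirr x = w := by
  let x : ProjectiveSpectrum 𝒜 :=
    { asHomogeneousIdeal := w.asHomogeneousIdeal.comap ψ
      isPrime := w.isPrime.comap (ψ : A →+* B)
      not_irrelevant_le := fun hle => by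
        obtain ⟨a, ha, hne⟩ := (RelCone.mem_domOpen ψ w).mp (mem_domOpen_of_z_mem ψ hz hbij w hw)
        exact hne (hle ha) }
  refine ⟨x, ProjectiveSpectrum.ext (HomogeneousIdeal.toIdeal_injective (Ideal.ext fun b => ?_))⟩
  have h1 : b - ψ (θ b) ∈ w.asHomogeneousIdeal.toIdeal :=
    (Ideal.span_singleton_le_iff_mem _).mpr hw (sub_map_mem_span ψ hbij (θ : B →+* A) hθ hθz b)
  show ψ (θ b) ∈ w.asHomogeneousIdeal.toIdeal ↔ b ∈ w.asHomogeneousIdeal.toIdeal
  exact ⟨fun h => by simpa using add_mem h1 h, fun h => by simpa using sub_mem h h1⟩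

omit hz hbij in
/-- A graded retraction gives a retraction of homogeneous localizations. -/
lemma retraction_comp_awayMap (θ : ℬ →+*ᵍ 𝒜) (hθ : ∀ a, θ (ψ a) = a) (f : A) :
    (ProjQMapX.awayMapTo θ (hθ f)).comp (Away.map ψ f) = RingHom.id _ := by
  rw [← ProjQMapX.awayMapTo_self ψ f, ProjQMapX.awayMapTo_comp]
  have e : θ.comp ψ = GradedRingHom.id 𝒜 := GradedRingHom.ext hθ
  exact (ProjQMapX.awayMapTo_congr e _ (rfl : (GradedRingHom.id 𝒜) f = f)).trans (Away.map_id _ f)

include hz hbij in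
lemma surjective_specAwayMap (f : A) :
    Function.Surjective (Spec.map (CommRingCat.ofHom (Away.map ψ f))) := by
  intro x
  refine ⟨Spec.map (CommRingCat.ofHom (ProjQMapX.awayMapTo (evalZero ψ hz hbij) (evalZero_map ψ hz hbij f))) x, ?_⟩
  rw [← Scheme.Hom.comp_apply, ← Spec.map_comp, ← CommRingCat.ofHom_comp,
    retraction_comp_awayMap ψ (evalZero ψ hz hbij) (evalZero_map ψ hz hbij)]
  simp

end Groth.Agent.ConeLib35

namespace Groth.Agent.ConeLib35

variable {A σ : Type u} [CommRing A] [SetLike σ A] [AddSubgroupClass σ A] {𝒜 : ℕ → σ} [GradedRing 𝒜]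

/-- Points of `Proj` are determined by the standard opens containing them. -/
lemma proj_ext {v w : Proj 𝒜}
    (h : ∀ (d : ℕ) (a : A), 0 < d → a ∈ 𝒜 d → (v ∈ Proj.basicOpen 𝒜 a ↔ w ∈ Proj.basicOpen 𝒜 a)) :
    v = w := by
  have key : ∀ (v w : Proj 𝒜), (∀ (d : ℕ) (a : A), 0 < d → a ∈ 𝒜 d →
      (v ∈ Proj.basicOpen 𝒜 a ↔ w ∈ Proj.basicOpen 𝒜 a)) →
      v.asHomogeneousIdeal.toIdeal ≤ w.asHomogeneousIdeal.toIdeal := by
    intro v w h a ha
    refine Proj16.mem_of_forall_proj_mem 𝒜 fun i => ?_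
    have hai : GradedRing.proj 𝒜 i a ∈ v.asHomogeneousIdeal.toIdeal :=
      v.asHomogeneousIdeal.isHomogeneous i ha
    obtain ⟨b, hb, hwb⟩ := SetLike.not_le_iff_exists.mp w.not_irrelevant_le
    obtain ⟨d, f, hd, hf, hwf⟩ := ProjQMapX.exists_homogeneous_of_mem_irrelevant
      (GradedRingHom.id 𝒜) (I := w.asHomogeneousIdeal.toIdeal) hb hwb
    have hm := SetLike.mul_mem_graded (Proj16.proj_mem 𝒜 i a) hf
    by_contra hne
    exact (h (i + d) _ (by omega) hm).mpr (fun hmem => (w.isPrime.mem_or_mem hmem).elim hne hwf)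
      (v.asHomogeneousIdeal.toIdeal.mul_mem_right f hai)
  exact ProjectiveSpectrum.ext (HomogeneousIdeal.toIdeal_injective
    (le_antisymm (key v w h) (key w v fun d a hd ha => (h d a hd ha).symm)))

end Groth.Agent.ConeLib35
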