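import Groth.Prelude.Def_RelSpec2
import Groth.Agent.Proj16.Graded
import Mathlib.AlgebraicGeometry.ProjectiveSpectrum.Functor
import Mathlib.RingTheory.Polynomial.Basic

/-!
A graded ring with a polynomial variable of degree one.
-/

universe u

open CategoryTheory AlgebraicGeometry HomogeneousLocalization
open scoped HomogeneousIdeal

noncomputable section

namespace Groth.Agent.ConeLib35

variable {A B : Type u} [CommRing A] [CommRing B]
variable {σ : Type u} [SetLike σ A] [AddSubgroupClass σ A] {𝒜 : ℕ → σ} [GradedRing 𝒜]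
variable {τ : Type u} [SetLike τ B] [AddSubgroupClass τ B] {ℬ : ℕ → τ} [GradedRing ℬ]

section coeff

variable (ψ : 𝒜 →+*ᵍ ℬ) {z : B} (hz : z ∈ ℬ 1)
  (hbij : Function.Bijective (Polynomial.eval₂RingHom (ψ : A →+* B) z))

/-- Degree projections commute with a graded homomorphism. -/
lemma proj_map (n : ℕ) (a : A) : GradedRing.proj ℬ n (ψ a) = ψ (GradedRing.proj 𝒜 n a) := by
  rw [GradedRing.proj_apply, GradedRing.proj_apply, ψ.map_directSumDecompose]

include hz hbij in
/-- The coefficients of a homogeneous element are homogeneous. -/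
lemma coeff_eq_proj (P : Polynomial A) {n : ℕ} (hP : P.eval₂ (ψ : A →+* B) z ∈ ℬ n) (j : ℕ) :
    P.coeff j = if j ≤ n then GradedRing.proj 𝒜 (n - j) (P.coeff j) else 0 := by
  classical
  let Q : Polynomial A := ∑ i ∈ Finset.range (n + 1),
    Polynomial.monomial i (GradedRing.proj 𝒜 (n - i) (P.coeff i))
  have hQ : Q = P := by
    refine hbij.1 ?_
    show Q.eval₂ (ψ : A →+* B) z = P.eval₂ (ψ : A →+* B) z
    have hterm : ∀ i, GradedRing.proj ℬ n (ψ (P.coeff i) * z ^ i) =
        if i ≤ n then ψ (GradedRing.proj 𝒜 (n - i) (P.coeff i)) * z ^ i else 0 := fun i => by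
      have hzi : z ^ i ∈ ℬ i := by simpa using SetLike.pow_mem_graded i hz
      rw [Proj16.proj_mul_of_mem ℬ hzi, proj_map]
    conv_rhs => rw [← Proj16.proj_of_mem ℬ hP, Polynomial.eval₂_eq_sum, Polynomial.sum_over_range'
      P (by simp) (P.natDegree + n + 1) (by omega), map_sum]
    simp only [RingHom.coe_coe, hterm]
    rw [show Q.eval₂ (ψ : A →+* B) z = ∑ i ∈ Finset.range (n + 1),
      ψ (GradedRing.proj 𝒜 (n - i) (P.coeff i)) * z ^ i by simp [Q, Polynomial.eval₂_finsetSum]]
    rw [← Finset.sum_filter]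
    refine Finset.sum_congr ?_ fun _ _ => rfl
    ext i
    simp only [Finset.mem_filter, Finset.mem_range]
    omega
  conv_lhs => rw [← hQ]
  simp only [Q, Polynomial.finsetSum_coeff, Polynomial.coeff_monomial]
  simp

include hz hbij in
lemma coeff_mem (P : Polynomial A) {n : ℕ} (hP : P.eval₂ (ψ : A →+* B) z ∈ ℬ n) (j : ℕ) :
    P.coeff j ∈ 𝒜 (n - j) := by
  rw [coeff_eq_proj ψ hz hbij P hP j]
  split_ifs
  · exact Proj16.proj_mem 𝒜 _ _
  · exact zero_mem _

include hz hbij in
lemma sum_coeff_eq_zero (P : Polynomial A) {n : ℕ} (hP : P.eval₂ (ψ : A →+* B) z ∈ ℬ n)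
    (h : P.eval 1 = 0) : P = 0 := by
  classical
  ext j
  rw [Polynomial.coeff_zero, coeff_eq_proj ψ hz hbij P hP j]
  split_ifs with hj
  swap; · rfl
  have h2 := congrArg (GradedRing.proj 𝒜 (n - j)) h
  rw [Polynomial.eval_eq_sum_range' (n := P.natDegree + n + 1) (by omega), map_sum, map_zero,
    Finset.sum_eq_single j] at h2
  · simpa using h2
  · intro i _ hij
    rw [one_pow, mul_one, coeff_eq_proj ψ hz hbij P hP i]
    split_ifs with hi
    · exact Proj16.proj_of_mem_ne 𝒜 (Proj16.proj_mem 𝒜 _ _) (by omega)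
    · exact map_zero _
  · intro hj'
    exact absurd (Finset.mem_range.mpr (by omega)) hj'

end coeff

section flat

/-- For a ring map into degree zero the homogeneous elements are monomials. -/
lemma coeff_eq_zero_of_degZero (φ : A →+* B) (hφ : ∀ a, φ a ∈ ℬ 0) {z : B} (hz : z ∈ ℬ 1)
    (hbij : Function.Bijective (Polynomial.eval₂RingHom φ z)) (P : Polynomial A) {n : ℕ}
    (hP : P.eval₂ φ z ∈ ℬ n) : P = Polynomial.monomial n (P.coeff n) := by
  classical
  refine hbij.1 ?_
  show P.eval₂ φ z = (Polynomial.monomial n (P.coeff n)).eval₂ φ z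
  have hmem : ∀ i, φ (P.coeff i) * z ^ i ∈ ℬ i := fun i => by
    simpa using SetLike.mul_mem_graded (hφ (P.coeff i)) (SetLike.pow_mem_graded i hz)
  conv_lhs => rw [← Proj16.proj_of_mem ℬ hP, Polynomial.eval₂_eq_sum, Polynomial.sum_over_range'
    P (by simp) (P.natDegree + n + 1) (by omega), map_sum]
  rw [Finset.sum_eq_single n, Proj16.proj_of_mem ℬ (hmem n), Polynomial.eval₂_monomial]
  · exact fun i _ hi => Proj16.proj_of_mem_ne ℬ (hmem i) hi
  · intro hn
    exact absurd (Finset.mem_range.mpr (by omega)) hn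

lemma sum_coeff_eq_zero_of_degZero (φ : A →+* B) (hφ : ∀ a, φ a ∈ ℬ 0) {z : B} (hz : z ∈ ℬ 1)
    (hbij : Function.Bijective (Polynomial.eval₂RingHom φ z)) (P : Polynomial A) {n : ℕ}
    (hP : P.eval₂ φ z ∈ ℬ n) (h : P.eval 1 = 0) : P = 0 := by
  have h1 := coeff_eq_zero_of_degZero φ hφ hz hbij P hP
  rw [h1] at h
  rw [h1, show P.coeff n = 0 by simpa using h, map_zero]

end flat

section away

variable (φ : A →+* B) {z : B} (hz : z ∈ ℬ 1)
  (hbij : Function.Bijective (Polynomial.eval₂RingHom φ z))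

/-- Setting the variable to `1`. -/
def evalOne : B →+* A :=
  (Polynomial.evalRingHom 1).comp (RingEquiv.ofBijective _ hbij).symm.toRingHom

lemma evalOne_eval₂ (P : Polynomial A) : evalOne φ hbij (P.eval₂ φ z) = P.eval 1 :=
  congrArg (Polynomial.eval 1) ((RingEquiv.ofBijective _ hbij).symm_apply_apply P)

lemma evalOne_z : evalOne φ hbij z = 1 := by
  simpa using evalOne_eval₂ φ hbij Polynomial.X

lemma evalOne_map (a : A) : evalOne φ hbij (φ a) = a := by
  simpa using evalOne_eval₂ φ hbij (Polynomial.C a)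

/-- The dehomogenization `B_(z) → A`. -/
def baseHom : Away ℬ z →+* A :=
  (IsLocalization.Away.lift z (g := evalOne φ hbij) (by rw [evalOne_z]; exact isUnit_one)).comp
    (algebraMap (Away ℬ z) (Localization.Away z))

lemma baseHom_of_val (q : Away ℬ z) (x : B) (k : ℕ)
    (hq : q.val = Localization.mk x ⟨z ^ k, pow_mem (Submonoid.mem_powers z) k⟩) :
    baseHom φ hbij q = evalOne φ hbij x := by
  rw [baseHom, RingHom.comp_apply, HomogeneousLocalization.algebraMap_apply, hq, Localization.mk_eq_mk',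
    IsLocalization.Away.lift, IsLocalization.lift_mk', Units.mul_inv_eq_iff_eq_mul,
    IsUnit.coe_liftRight]
  simp [map_pow, evalOne_z]

lemma baseHom_mk (k : ℕ) (x : B) (hx : x ∈ ℬ (k • 1)) :
    baseHom φ hbij (Away.mk ℬ hz k x hx) = evalOne φ hbij x :=
  baseHom_of_val φ hbij _ x k (Away.val_mk ..)

include hz in
lemma baseHom_injective
    (hzero : ∀ (P : Polynomial A) (n : ℕ), P.eval₂ φ z ∈ ℬ n → P.eval 1 = 0 → P = 0) :
    Function.Injective (baseHom (ℬ := ℬ) φ hbij) := by
  rw [injective_iff_map_eq_zero]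
  intro q hq
  obtain ⟨n, b, hb, rfl⟩ := q.mk_surjective ℬ hz
  obtain ⟨P, rfl⟩ := hbij.2 b
  simp only [Polynomial.coe_eval₂RingHom] at hb
  rw [baseHom_mk φ hz hbij] at hq
  simp only [Polynomial.coe_eval₂RingHom, evalOne_eval₂] at hq
  refine val_injective _ ?_
  rw [Away.val_mk, val_zero, hzero P _ hb hq]
  simp [Localization.mk_zero]

include hz in
/-- A set of generators that the dehomogenization hits. -/
lemma baseHom_surjective {S : Set A} (hS : AddSubgroup.closure S = ⊤)
    (h : ∀ a ∈ S, ∃ k, φ a ∈ ℬ k) : Function.Surjective (baseHom (ℬ := ℬ) φ hbij) := by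
  intro a
  have : a ∈ AddSubgroup.closure S := hS ▸ AddSubgroup.mem_top a
  induction this using AddSubgroup.closure_induction with
  | mem x hx =>
    obtain ⟨k, hk⟩ := h x hx
    exact ⟨Away.mk ℬ hz k (φ x) (by simpa using hk), by rw [baseHom_mk φ hz hbij, evalOne_map]⟩
  | zero => exact ⟨0, map_zero _⟩
  | add x y _ _ hx hy =>
    obtain ⟨⟨p, rfl⟩, ⟨q, rfl⟩⟩ := And.intro hx hy
    exact ⟨p + q, map_add _ _ _⟩
  | neg x _ hx =>
    obtain ⟨p, rfl⟩ := hx
    exact ⟨-p, map_neg _ _⟩

/-- The dehomogenization is determined by its values on the generators. -/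
lemma eq_baseHom (hb : Function.Bijective (baseHom (ℬ := ℬ) φ hbij)) {S : Set A}
    (hS : AddSubgroup.closure S = ⊤) (θ : Away ℬ z →+* A)
    (h : ∀ a ∈ S, ∃ q : Away ℬ z, baseHom φ hbij q = a ∧ θ q = a) : θ = baseHom φ hbij := by
  refine RingHom.ext fun q => ?_
  let e := RingEquiv.ofBijective _ hb
  have key : θ.toAddMonoidHom.comp e.symm.toRingHom.toAddMonoidHom = AddMonoidHom.id A := by
    refine AddMonoidHom.eq_of_eqOn_dense hS fun a ha => ?_
    obtain ⟨q, hq, hθ⟩ := h a ha
    show θ (e.symm a) = a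
    rw [show e.symm a = q from e.symm_apply_eq.mpr hq.symm, hθ]
  have h2 := DFunLike.congr_fun key (baseHom φ hbij q)
  show θ q = _
  rwa [show θ.toAddMonoidHom.comp e.symm.toRingHom.toAddMonoidHom (baseHom φ hbij q) = θ (e.symm (e q))
    from rfl, e.symm_apply_apply] at h2

/-- The homogeneous elements generate additively. -/
lemma closure_homogeneous (𝒜 : ℕ → σ) [GradedRing 𝒜] :
    AddSubgroup.closure {a : A | ∃ i, a ∈ 𝒜 i} = ⊤ := by
  classical
  refine eq_top_iff.mpr fun a _ => ?_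
  exact Proj16.mem_of_forall_proj_mem 𝒜 fun i =>
    AddSubgroup.subset_closure ⟨i, Proj16.proj_mem 𝒜 i a⟩

end away

end Groth.Agent.ConeLib35
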