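import Groth.Agent.ConeLib35.Cone

/-!
Working with `Proj` of semilinear graded maps of projective cones.
-/

universe u

open CategoryTheory CategoryTheory.Limits AlgebraicGeometry TopologicalSpace Opposite
open HomogeneousLocalization
open scoped HomogeneousIdeal

noncomputable section

namespace Groth.Agent.ConeLib35

lemma exists_factor {T Z X : Scheme.{u}} (b : T ⟶ Z) (g : X ⟶ Z) [IsOpenImmersion g] (t : T)
    (ht : b t ∈ Set.range g) :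
    ∃ (T₀ : Scheme.{u}) (j : T₀ ⟶ T) (τ : T₀ ⟶ X), IsOpenImmersion j ∧ t ∈ Set.range j ∧ j ≫ b = τ ≫ g := by
  have hsub : Set.range ((b ⁻¹ᵁ g.opensRange).ι ≫ b) ⊆ Set.range g := by
    rintro _ ⟨x, rfl⟩
    exact x.2
  exact ⟨_, (b ⁻¹ᵁ g.opensRange).ι, IsOpenImmersion.lift g _ hsub, inferInstance,
    by rw [Scheme.Opens.range_ι]; exact ht, (IsOpenImmersion.lift_fac _ _ hsub).symm⟩

lemma hom_ext_local {T X : Scheme.{u}} {a a' : T ⟶ X}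
    (H : ∀ t : T, ∃ (T₀ : Scheme.{u}) (j : T₀ ⟶ T), IsOpenImmersion j ∧ t ∈ Set.range j ∧ j ≫ a = j ≫ a') :
    a = a' := by
  refine Scheme.hom_ext_of_forall _ _ fun t => ?_
  obtain ⟨T₀, j, hj, ht, e⟩ := H t
  refine ⟨j.opensRange, ht, ?_⟩
  rw [← j.isoOpensRange_inv_comp, Category.assoc, Category.assoc, e]

section qmap

variable {S S' : Scheme.{u}} {g : S' ⟶ S} {𝒮 : RelProj.QCGrAlg S} {𝒮' : RelProj.QCGrAlg S'}
  {u : RelProj.QGrHom g 𝒮 𝒮'}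
  {P : Scheme.{u}} {p : P ⟶ S}
  {chart : ∀ (U : S.Opens) (hU : IsAffineOpen U), (((p ⁻¹ᵁ U : P.Opens) : Scheme.{u}) ≅ Proj (𝒮.deg U hU))}
  {P' : Scheme.{u}} {p' : P' ⟶ S'}
  {chart' : ∀ (U' : S'.Opens) (hU' : IsAffineOpen U'), (((p' ⁻¹ᵁ U' : P'.Opens) : Scheme.{u}) ≅ Proj (𝒮'.deg U' hU'))}

/-- A standard chart with a prescribed value of the image element. -/
theorem exists_chartTo {W : P'.Opens} {r : (W : Scheme.{u}) ⟶ P}
    (hr : RelProj.IsProjQMapOn u p chart p' chart' W r) (hW : RelProj.domQ u p' chart' ≤ W)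
    {U : S.Opens} (hU : IsAffineOpen U) {U' : S'.Opens} (hU' : IsAffineOpen U') (hle : U' ≤ g ⁻¹ᵁ U)
    {d : ℕ} (hd : 0 < d) {f : 𝒮.presheaf.obj (op U)} (hf : f ∈ 𝒮.deg U hU d)
    {y : 𝒮'.presheaf.obj (op U')} (e : u.gradedAt U hU U' hU' hle f = y) :
    ∃ γ : Spec (CommRingCat.of (Away (𝒮'.deg U' hU') y)) ⟶ (W : Scheme.{u}),
      IsOpenImmersion γ ∧
      γ ≫ W.ι = Proj.awayι (𝒮'.deg U' hU') y (e ▸ (u.gradedAt U hU U' hU' hle).map_mem hf) hd ≫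
          RelProj.emb p' chart' U' hU' ∧
      γ ≫ r = Spec.map (CommRingCat.ofHom (ProjQMapX.awayMapTo (u.gradedAt U hU U' hU' hle) e)) ≫
        Proj.awayι (𝒮.deg U hU) f hf hd ≫ RelProj.emb p chart U hU := by
  subst e
  have hsub : Set.range (RelProj.awayEmb u p' chart' U hU U' hU' hle hd f hf).base ⊆ Set.range W.ι.base :=
    (RelProj.range_awayEmb_subset_domQ u p' chart' U hU U' hU' hle hd f hf).trans
      (by rw [Scheme.Opens.range_ι, Scheme.Opens.range_ι]; exact hW)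
  refine ⟨IsOpenImmersion.lift W.ι _ hsub, ?_, IsOpenImmersion.lift_fac _ _ hsub, hr U hU U' hU' hle d hd f hf hsub⟩
  have : IsOpenImmersion (IsOpenImmersion.lift W.ι _ hsub ≫ W.ι) := by
    rw [IsOpenImmersion.lift_fac]; unfold RelProj.awayEmb; infer_instance
  exact IsOpenImmersion.of_comp _ W.ι

theorem chartTo_comp {h : P' ⟶ P} (hh : RelProj.IsProjQMap u p chart p' chart' h)
    {U : S.Opens} (hU : IsAffineOpen U) {U' : S'.Opens} (hU' : IsAffineOpen U') (hle : U' ≤ g ⁻¹ᵁ U)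
    {d : ℕ} (hd : 0 < d) {f : 𝒮.presheaf.obj (op U)} (hf : f ∈ 𝒮.deg U hU d)
    {y : 𝒮'.presheaf.obj (op U')} (e : u.gradedAt U hU U' hU' hle f = y) :
    (Proj.awayι (𝒮'.deg U' hU') y (e ▸ (u.gradedAt U hU U' hU' hle).map_mem hf) hd ≫
        RelProj.emb p' chart' U' hU') ≫ h =
      Spec.map (CommRingCat.ofHom (ProjQMapX.awayMapTo (u.gradedAt U hU U' hU' hle) e)) ≫
        Proj.awayι (𝒮.deg U hU) f hf hd ≫ RelProj.emb p chart U hU := by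
  subst e
  exact hh.2 U hU U' hU' hle d hd f hf

/-- Compositions of two maps of homogeneous localizations. -/
lemma awayMapTo_comp_eq {A B C σ τ ω : Type u} [CommRing A] [CommRing B] [CommRing C]
    [SetLike σ A] [AddSubgroupClass σ A] [SetLike τ B] [AddSubgroupClass τ B]
    [SetLike ω C] [AddSubgroupClass ω C]
    {𝒜 : ℕ → σ} {ℬ : ℕ → τ} {𝒞 : ℕ → ω} [GradedRing 𝒜] [GradedRing ℬ] [GradedRing 𝒞]
    {B' τ' : Type u} [CommRing B'] [SetLike τ' B'] [AddSubgroupClass τ' B'] {ℬ' : ℕ → τ'} [GradedRing ℬ']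
    (r₁ : 𝒜 →+*ᵍ ℬ) (r₁' : ℬ →+*ᵍ 𝒞) (r₂ : 𝒜 →+*ᵍ ℬ') (r₂' : ℬ' →+*ᵍ 𝒞) {x : A} {y : B} {y' : B'} {w : C}
    (e₁ : r₁ x = y) (e₁' : r₁' y = w) (e₂ : r₂ x = y') (e₂' : r₂' y' = w)
    (h : r₁'.comp r₁ = r₂'.comp r₂) :
    (ProjQMapX.awayMapTo r₁' e₁').comp (ProjQMapX.awayMapTo r₁ e₁) =
      (ProjQMapX.awayMapTo r₂' e₂').comp (ProjQMapX.awayMapTo r₂ e₂) := by
  rw [ProjQMapX.awayMapTo_comp, ProjQMapX.awayMapTo_comp]
  exact ProjQMapX.awayMapTo_congr h _ _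

end qmap

section square

variable {Y Y' : Scheme.{u}} {q : Y' ⟶ Y} {𝒮 : RelProj.QCGrAlg Y} {𝒮' : RelProj.QCGrAlg Y'}
  {u : RelProj.QGrHom q 𝒮 𝒮'}
  {𝒮h : RelProj.QCGrAlg Y} {ι : 𝒮.toQCAlg ⟶ 𝒮h.toQCAlg} {z : 𝒮h.presheaf.obj (op ⊤)}
  (hz : RelCone.IsPolyOver 𝒮 𝒮h ι z)
  {𝒮h' : RelProj.QCGrAlg Y'} {ι' : 𝒮'.toQCAlg ⟶ 𝒮h'.toQCAlg} {z' : 𝒮h'.presheaf.obj (op ⊤)}
  (hz' : RelCone.IsPolyOver 𝒮' 𝒮h' ι' z')
  {uh : RelProj.QGrHom q 𝒮h 𝒮h'}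
  (huh : ∀ U : Y.Opens, ι.hom.app (op U) ≫ uh.app U = u.app U ≫ ι'.hom.app (op (q ⁻¹ᵁ U)))

include huh in
/-- The extension commutes with the inclusions of the coefficient algebras. -/
lemma square_apply (U : Y.Opens) (hU : IsAffineOpen U) (U' : Y'.Opens) (hU' : IsAffineOpen U')
    (hle : U' ≤ q ⁻¹ᵁ U) (a : 𝒮.presheaf.obj (op U)) :
    uh.gradedAt U hU U' hU' hle (RelProj.gradedHomAt ι hz.graded U hU a) =
      RelProj.gradedHomAt ι' hz'.graded U' hU' (u.gradedAt U hU U' hU' hle a) := by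
  have h1 : ι.hom.app (op U) ≫ uh.appLE U U' hle = u.appLE U U' hle ≫ ι'.hom.app (op U') := by
    rw [RelSpec.QHom.appLE, RelSpec.QHom.appLE, reassoc_of% huh U, Category.assoc, ι'.hom.naturality]
  exact ConcreteCategory.congr_hom h1 a

include huh in
lemma square_comp (U : Y.Opens) (hU : IsAffineOpen U) (U' : Y'.Opens) (hU' : IsAffineOpen U')
    (hle : U' ≤ q ⁻¹ᵁ U) :
    (uh.gradedAt U hU U' hU' hle).comp (RelProj.gradedHomAt ι hz.graded U hU) =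
      (RelProj.gradedHomAt ι' hz'.graded U' hU').comp (u.gradedAt U hU U' hU' hle) :=
  GradedRingHom.ext (square_apply hz hz' huh U hU U' hU' hle)

variable (huhz : (uh.app ⊤).hom z = RelCone.restrictTop 𝒮h' z' (q ⁻¹ᵁ ⊤))

include huhz in
/-- The extension sends the variable to the variable. -/
lemma square_z (U : Y.Opens) (hU : IsAffineOpen U) (U' : Y'.Opens) (hU' : IsAffineOpen U')
    (hle : U' ≤ q ⁻¹ᵁ U) : uh.gradedAt U hU U' hU' hle (zres z U) = zres z' U' := by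
  have h1 : 𝒮h.presheaf.map (homOfLE (le_top : U ≤ ⊤)).op ≫ uh.appLE U U' hle =
      uh.appLE ⊤ U' (le_top : U' ≤ q ⁻¹ᵁ ⊤) := uh.toQHom.map_appLE le_top hle
  refine (ConcreteCategory.congr_hom h1 z).trans ?_
  show (𝒮h'.presheaf.map (homOfLE (le_top : U' ≤ q ⁻¹ᵁ ⊤)).op).hom ((uh.app ⊤).hom z) = _
  rw [huhz]
  exact zres_res z' _

variable {PC PC' : Scheme.{u}} {pC : PC ⟶ Y}
  {chartC : ∀ (U : Y.Opens) (hU : IsAffineOpen U), (((pC ⁻¹ᵁ U : PC.Opens) : Scheme.{u}) ≅ Proj (𝒮h.deg U hU))}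
  (hC : RelProj.IsRelProj 𝒮h pC chartC) {pC' : PC' ⟶ Y'}
  {chartC' : ∀ (U : Y'.Opens) (hU : IsAffineOpen U), (((pC' ⁻¹ᵁ U : PC'.Opens) : Scheme.{u}) ≅ Proj (𝒮h'.deg U hU))}
  (hC' : RelProj.IsRelProj 𝒮h' pC' chartC')
  {Φh : ((RelProj.domQ uh pC' chartC' : PC'.Opens) : Scheme.{u}) ⟶ PC}
  (hΦh : RelProj.IsProjQMapOn uh pC chartC pC' chartC' (RelProj.domQ uh pC' chartC') Φh)

include hC hC' hΦh in
/-- A point going to the pointed cone lies in a standard chart at an element of the coefficient algebra. -/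
lemma exists_pair_of_mem (x : (RelProj.domQ uh pC' chartC' : PC'.Opens))
    (hx : Φh x ∈ RelCone.pointedProjCone 𝒮 hz pC chartC) :
    ∃ (U : Y.Opens) (hU : IsAffineOpen U) (U' : Y'.Opens) (hU' : IsAffineOpen U') (hle : U' ≤ q ⁻¹ᵁ U)
      (d : ℕ) (a : 𝒮.presheaf.obj (op U)) (w : Proj (𝒮h'.deg U' hU')), 0 < d ∧ a ∈ 𝒮.deg U hU d ∧
      RelProj.emb pC' chartC' U' hU' w = (RelProj.domQ uh pC' chartC').ι x ∧
      w ∈ Proj.basicOpen (𝒮h'.deg U' hU') (uh.gradedAt U hU U' hU' hle (RelProj.gradedHomAt ι hz.graded U hU a)) := by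
  obtain ⟨_, ⟨U, hU₀, rfl⟩, hxU, -⟩ := Y.isBasis_affineOpens.exists_subset_of_mem_open
    (Set.mem_univ (pC (Φh x))) isOpen_univ
  have hU : IsAffineOpen U := hU₀
  obtain ⟨w₀, hw₀⟩ := ProjQMapX.exists_emb_eq (chart := chartC) U hU hxU
  rw [← hw₀, emb_mem_pointedProjCone_iff hz hC U hU, ProjQMapX.mem_domOpen_iff] at hx
  obtain ⟨d, a, hd, ha, hwa⟩ := hx
  set y := pC' ((RelProj.domQ uh pC' chartC').ι x) with hy_def
  have hqy : q y ∈ U := by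
    rw [hy_def, ← Scheme.Hom.comp_apply, ← Scheme.Hom.comp_apply,
      ← ProjQMapX.isProjQMapOn_comp hC hC' hΦh]
    exact hxU
  obtain ⟨_, ⟨U', hU₀', rfl⟩, hyU', hle⟩ := Y'.isBasis_affineOpens.exists_subset_of_mem_open
    (show y ∈ (q ⁻¹ᵁ U : Set Y') from hqy) (q ⁻¹ᵁ U).isOpen
  have hU' : IsAffineOpen U' := hU₀'
  obtain ⟨w, hw⟩ := ProjQMapX.exists_emb_eq (chart := chartC') U' hU' hyU'
  refine ⟨U, hU, U', hU', hle, d, a, w, hd, ha, hw, ?_⟩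
  exact (ProjQMapX.apply_mem_basicOpen_iff hC hC' hΦh hU hU' hle hd (hz.graded U hU d a ha) x w hw).mp
    ⟨w₀, hwa, hw₀⟩

end square

end Groth.Agent.ConeLib35

namespace Groth.Agent.ConeLib35

section comm

variable {A B A' B' : Type u} [CommRing A] [CommRing B] [CommRing A'] [CommRing B']
variable {τ : Type u} [SetLike τ B] [AddSubgroupClass τ B] {ℬ : ℕ → τ} [GradedRing ℬ]
variable {τ' : Type u} [SetLike τ' B'] [AddSubgroupClass τ' B'] {ℬ' : ℕ → τ'} [GradedRing ℬ']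

/-- The dehomogenization is natural. -/
lemma baseHom_comm (φ : A →+* B) {z : B} (hz : z ∈ ℬ 1) (hbij : Function.Bijective (Polynomial.eval₂RingHom φ z))
    (φ' : A' →+* B') {z' : B'} (hz' : z' ∈ ℬ' 1) (hbij' : Function.Bijective (Polynomial.eval₂RingHom φ' z'))
    (r : ℬ →+*ᵍ ℬ') (s : A →+* A') (hsq : ∀ a, r (φ a) = φ' (s a)) (e : r z = z') :
    s.comp (baseHom (ℬ := ℬ) φ hbij) = (baseHom (ℬ := ℬ') φ' hbij').comp (ProjQMapX.awayMapTo r e) := by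
  refine RingHom.ext fun q => ?_
  obtain ⟨n, b, hb, rfl⟩ := q.mk_surjective ℬ hz
  rw [RingHom.comp_apply, RingHom.comp_apply, ProjQMapX.awayMapTo_mk, baseHom_mk φ hz hbij,
    baseHom_mk φ' hz' hbij']
  obtain ⟨P, rfl⟩ := hbij.2 b
  have e' : r (P.eval₂ φ z) = (P.map s).eval₂ φ' z' := by
    show (r : B →+* B') _ = _
    rw [Polynomial.hom_eval₂, Polynomial.eval₂_map, show (r : B →+* B') z = z' from e]
    exact congrArg (fun f => P.eval₂ f z') (RingHom.ext hsq)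
  simp only [Polynomial.coe_eval₂RingHom]
  rw [evalOne_eval₂, e', evalOne_eval₂, Polynomial.eval_map, ← Polynomial.coe_evalRingHom,
    Polynomial.eval₂_at_one]
  rfl

end comm

section cone

variable {Y Y' : Scheme.{u}} {q : Y' ⟶ Y} {𝒮 : RelProj.QCGrAlg Y} {𝒮' : RelProj.QCGrAlg Y'}
  {u : RelProj.QGrHom q 𝒮 𝒮'}
  {𝒮h : RelProj.QCGrAlg Y} {ι : 𝒮.toQCAlg ⟶ 𝒮h.toQCAlg} {z : 𝒮h.presheaf.obj (op ⊤)}
  (hz : RelCone.IsPolyOver 𝒮 𝒮h ι z)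
  {𝒮h' : RelProj.QCGrAlg Y'} {ι' : 𝒮'.toQCAlg ⟶ 𝒮h'.toQCAlg} {z' : 𝒮h'.presheaf.obj (op ⊤)}
  (hz' : RelCone.IsPolyOver 𝒮' 𝒮h' ι' z')
  {uh : RelProj.QGrHom q 𝒮h 𝒮h'}
  (huh : ∀ U : Y.Opens, ι.hom.app (op U) ≫ uh.app U = u.app U ≫ ι'.hom.app (op (q ⁻¹ᵁ U)))
  (huhz : (uh.app ⊤).hom z = RelCone.restrictTop 𝒮h' z' (q ⁻¹ᵁ ⊤))

include huh huhz in
lemma dehom_comm (U : Y.Opens) (hU : IsAffineOpen U) (U' : Y'.Opens) (hU' : IsAffineOpen U')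
    (hle : U' ≤ q ⁻¹ᵁ U) :
    (u.appLE U U' hle).hom.comp (dehom ι z (poly_bij hz) U hU) =
      (dehom ι' z' (poly_bij hz') U' hU').comp
        (ProjQMapX.awayMapTo (uh.gradedAt U hU U' hU' hle) (square_z huhz U hU U' hU' hle)) :=
  baseHom_comm _ (hz.deg_z U hU) _ _ (hz'.deg_z U' hU') _ _ _ (square_apply hz hz' huh U hU U' hU' hle)
    (square_z huhz U hU U' hU' hle)

end cone

end Groth.Agent.ConeLib35
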